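import Cfsg.Agent.H530.HT.PSpPNum_m3
import Cfsg.Agent.H337.HT.Big_mg_m3
import Cfsg.Agent.H936.List12c
import Cfsg.Agent.H659.J1Not11
import Cfsg.Agent.H878.Sz.MainP3
import Cfsg.Agent.S2126
import Cfsg.Agent.S1163
import Cfsg.Agent.OddHalf.Known
import Cfsg.Agent.H337.HT.NumP
import Cfsg.Agent.Prune
set_option linter.all false

section
prune_inst 0x7ffffdffffff7fffffff7e7fffdcdfffffffffffefdff9fbffe6ebffbfdfeb9ee9edfbadefebfbfe1ed6ea1c18fc7bd3fffffeffe36ffc7ffffdfff45ffbffdfffffbd3971f79c3e0fbc6fff93f0778e7f3fffffffffffffffffffffffffffbeffbfffffffff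

-- part: H391/HT/Small
section
prune_inst 0x2320000000000000000200001814000020000012000002100000012009048320010004000000001c0000000000000b000400200000400000080180d04100006c01880000000000000000000000000000000000004000000000
set_option linter.all false
open scoped Cfsg.Agent.FastGrp

/-!
# S3512, quasisimple rows, degree `3 ≤ n ≤ 12`: the numerical survivors

`small`: `P ≤ GL_n(F)` a core, `3 ≤ n ≤ 12`, `p = char F` divides `|Soc P|`, `Soc P` a known simple group not of Lie type in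
characteristic `p`, and `(q, m, h)` a solution of the numerical conditions `CP`: then `SmSurv`.
-/

set_option autoImplicit false
set_option linter.unusedSectionVars false
set_option maxRecDepth 100000

universe u v

namespace Cfsg.Agent.H391.HT

open Cfsg Cfsg.Geo Cfsg.Agent.H915.LD Cfsg.Agent.H912.Bd Cfsg.Agent.H936.List12

def ex_a6 : List (ℕ × ℕ × ℕ) := [(4, 8, 315)]

theorem s_a6 {T : Type v} [Group T] {p n : ℕ} (hp : p.Prime) (ho : Nat.card T = 360)
    (hA : Nat.card (MulAut T) ∣ 1440) (hn : 3 ≤ n) (hm : p ∈ [2, 5]) : Surv ex_a6 p n T :=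
surv [(2, 5, 45), (5, 1, 288)] 10 14 13 hp ho hA (by norm_num) hn (by decide +kernel) hm

def ex_a7 : List (ℕ × ℕ × ℕ) := [(3, 4, 21), (3, 16, 315), (4, 8, 315), (6, 2, 21), (6, 4, 315), (12, 2, 315), (4,
    3, 40), (4, 3, 20), (4, 27, 7280), (4, 27, 3640), (3, 25, 504), (4, 125, 31248), (6, 5, 504), (4, 7, 480), (4,
    7, 240)]

def g_a7 : List (ℕ × ℕ × ℕ) := [(3, 4, 21), (3, 16, 315), (4, 8, 315), (6, 2, 21), (6, 4, 315), (12, 2, 315), (4,
    27, 7280), (4, 27, 3640), (3, 25, 504), (4, 125, 31248), (6, 5, 504), (4, 7, 480), (4, 7, 240)]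

theorem s_a7 {T : Type v} [Group T] {p n : ℕ} (hp : p.Prime) (ho : Nat.card T = 2520)
    (hA : Nat.card (MulAut T) ∣ 5040) (hn : 3 ≤ n) (hm : p ∈ [2, 3, 5, 7]) : Surv ex_a7 p n T :=
surv [(2, 4, 315), (3, 2, 560), (5, 1, 1008), (7, 1, 720)] 18 20 19 hp ho hA (by norm_num) hn (by decide +kernel) hm

def ex_a8 : List (ℕ × ℕ × ℕ) := [(4, 3, 40), (4, 3, 20), (4, 27, 7280), (4, 7, 480), (4, 7, 240)]

theorem s_a8 {T : Type v} [Group T] {p n : ℕ} (hp : p.Prime) (ho : Nat.card T = 20160)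
    (hA : Nat.card (MulAut T) ∣ 40320) (hn : 3 ≤ n) (hm : p ∈ [3, 5, 7]) : Surv ex_a8 p n T :=
surv [(3, 2, 4480), (5, 1, 8064), (7, 1, 5760)] 18 18 17 hp ho hA (by norm_num) hn (by decide +kernel) hm

def ex_l2_7 : List (ℕ × ℕ × ℕ) := [(3, 9, 56), (4, 27, 1456), (6, 3, 56)]

theorem s_l2_7 {T : Type v} [Group T] {p n : ℕ} (hp : p.Prime) (ho : Nat.card T = 168)
    (hA : Nat.card (MulAut T) ∣ 336) (hn : 3 ≤ n) (hm : p ∈ [3]) : Surv ex_l2_7 p n T :=
surv [(3, 1, 112)] 6 12 11 hp ho hA (by norm_num) hn (by decide +kernel) hm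

def ex_l2_8 : List (ℕ × ℕ × ℕ) := []

theorem s_l2_8 {T : Type v} [Group T] {p n : ℕ} (hp : p.Prime) (ho : Nat.card T = 504)
    (hA : Nat.card (MulAut T) ∣ 1512) (hn : 7 ≤ n) (hm : p ∈ [3, 7]) : Surv ex_l2_8 p n T :=
surv [(3, 3, 56), (7, 1, 216)] 4 4 5 hp ho hA (by norm_num) hn (by decide +kernel) hm

def ex_l2_11 : List (ℕ × ℕ × ℕ) := []

theorem s_l2_11 {T : Type v} [Group T] {p n : ℕ} (hp : p.Prime) (ho : Nat.card T = 660)
    (hA : Nat.card (MulAut T) ∣ 1320) (hn : 5 ≤ n) (hm : p ∈ [2, 3, 5]) : Surv ex_l2_11 p n T :=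
surv [(2, 3, 165), (3, 1, 440), (5, 1, 264)] 5 8 15 hp ho hA (by norm_num) hn (by decide +kernel) hm

def ex_l2_13 : List (ℕ × ℕ × ℕ) := [(6, 2, 21), (6, 4, 819), (6, 4, 273), (12, 2, 273), (6, 3, 364), (6, 3, 182),
    (6, 3, 104), (6, 3, 91), (6, 9, 1456), (12, 3, 1456)]

def g_l2_13 : List (ℕ × ℕ × ℕ) := [(6, 4, 819), (6, 4, 273), (12, 2, 273), (6, 3, 364), (6, 3, 182), (6, 3, 104),
    (6, 3, 91), (6, 9, 1456), (12, 3, 1456)]

theorem s_l2_13 {T : Type v} [Group T] {p n : ℕ} (hp : p.Prime) (ho : Nat.card T = 1092)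
    (hA : Nat.card (MulAut T) ∣ 2184) (hn : 6 ≤ n) (hm : p ∈ [2, 3, 7]) : Surv ex_l2_13 p n T :=
surv [(2, 3, 273), (3, 1, 728), (7, 1, 312)] 40 7 16 hp ho hA (by norm_num) hn (by decide +kernel) hm

def ex_l2_17 : List (ℕ × ℕ × ℕ) := [(8, 2, 51)]

theorem s_l2_17 {T : Type v} [Group T] {p n : ℕ} (hp : p.Prime) (ho : Nat.card T = 2448)
    (hA : Nat.card (MulAut T) ∣ 4896) (hn : 8 ≤ n) (hm : p ∈ [2, 3]) : Surv ex_l2_17 p n T :=
surv [(2, 5, 153), (3, 2, 544)] 8 5 12 hp ho hA (by norm_num) hn (by decide +kernel) hm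

def ex_l2_19 : List (ℕ × ℕ × ℕ) := []

theorem s_l2_19 {T : Type v} [Group T] {p n : ℕ} (hp : p.Prime) (ho : Nat.card T = 3420)
    (hA : Nat.card (MulAut T) ∣ 6840) (hn : 9 ≤ n) (hm : p ∈ [2, 3, 5]) : Surv ex_l2_19 p n T :=
surv [(2, 3, 855), (3, 2, 760), (5, 1, 1368)] 5 5 16 hp ho hA (by norm_num) hn (by decide +kernel) hm

def ex_l2_23 : List (ℕ × ℕ × ℕ) := []

theorem s_l2_23 {T : Type v} [Group T] {p n : ℕ} (hp : p.Prime) (ho : Nat.card T = 6072)
    (hA : Nat.card (MulAut T) ∣ 12144) (hn : 11 ≤ n) (hm : p ∈ [2, 3, 11]) : Surv ex_l2_23 p n T :=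
surv [(2, 4, 759), (3, 1, 4048), (11, 1, 1104)] 4 5 14 hp ho hA (by norm_num) hn (by decide +kernel) hm

def ex_l2_25 : List (ℕ × ℕ × ℕ) := []

theorem s_l2_25 {T : Type v} [Group T] {p n : ℕ} (hp : p.Prime) (ho : Nat.card T = 7800)
    (hA : Nat.card (MulAut T) ∣ 31200) (hn : 12 ≤ n) (hm : p ∈ [2, 3, 13]) : Surv ex_l2_25 p n T :=
surv [(2, 5, 975), (3, 1, 10400), (13, 1, 2400)] 8 5 13 hp ho hA (by norm_num) hn (by decide +kernel) hm

def ex_l33 : List (ℕ × ℕ × ℕ) := []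

theorem s_l33 {T : Type v} [Group T] {p n : ℕ} (hp : p.Prime) (ho : Nat.card T = 5616)
    (hA : Nat.card (MulAut T) ∣ 11232) (hn : 8 ≤ n) (hm : p ∈ [2, 13]) : Surv ex_l33 p n T :=
surv [(2, 5, 351), (13, 1, 864)] 6 5 14 hp ho hA (by norm_num) hn (by decide +kernel) hm

def ex_u33 : List (ℕ × ℕ × ℕ) := [(6, 2, 21)]

theorem s_u33 {T : Type v} [Group T] {p n : ℕ} (hp : p.Prime) (ho : Nat.card T = 6048)
    (hA : Nat.card (MulAut T) ∣ 12096) (hn : 6 ≤ n) (hm : p ∈ [2, 7]) : Surv ex_u33 p n T :=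
surv [(2, 6, 189), (7, 1, 1728)] 14 7 15 hp ho hA (by norm_num) hn (by decide +kernel) hm

def ex_u34 : List (ℕ × ℕ × ℕ) := []

theorem s_u34 {T : Type v} [Group T] {p n : ℕ} (hp : p.Prime) (ho : Nat.card T = 62400)
    (hA : Nat.card (MulAut T) ∣ 249600) (hn : 12 ≤ n) (hm : p ∈ [3, 5, 13]) : Surv ex_u34 p n T :=
surv [(3, 1, 83200), (5, 2, 9984), (13, 1, 19200)] 6 5 14 hp ho hA (by norm_num) hn (by decide +kernel) hm

def ex_u42 : List (ℕ × ℕ × ℕ) := []

theorem s_u42 {T : Type v} [Group T] {p n : ℕ} (hp : p.Prime) (ho : Nat.card T = 25920)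
    (hA : Nat.card (MulAut T) ∣ 51840) (hn : 4 ≤ n) (hm : p ∈ [5]) : Surv ex_u42 p n T :=
surv [(5, 1, 10368)] 6 8 12 hp ho hA (by norm_num) hn (by decide +kernel) hm

def ex_u52 : List (ℕ × ℕ × ℕ) := []

theorem s_u52 {T : Type v} [Group T] {p n : ℕ} (hp : p.Prime) (ho : Nat.card T = 13685760)
    (hA : Nat.card (MulAut T) ∣ 27371520) (hn : 8 ≤ n) (hm : p ∈ [3, 5, 11]) : Surv ex_u52 p n T :=
surv [(3, 5, 112640), (5, 1, 5474304), (11, 1, 2488320)] 6 6 18 hp ho hA (by norm_num) hn (by decide +kernel) hm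

def ex_s45 : List (ℕ × ℕ × ℕ) := [(12, 2, 585)]

theorem s_s45 {T : Type v} [Group T] {p n : ℕ} (hp : p.Prime) (ho : Nat.card T = 4680000)
    (hA : Nat.card (MulAut T) ∣ 9360000) (hn : 12 ≤ n) (hm : p ∈ [2, 3, 13]) : Surv ex_s45 p n T :=
surv [(2, 7, 73125), (3, 2, 1040000), (13, 1, 720000)] 16 6 26 hp ho hA (by norm_num) hn (by decide +kernel) hm

def ex_s62 : List (ℕ × ℕ × ℕ) := []

theorem s_s62 {T : Type v} [Group T] {p n : ℕ} (hp : p.Prime) (ho : Nat.card T = 1451520)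
    (hA : Nat.card (MulAut T) ∣ 1451520) (hn : 7 ≤ n) (hm : p ∈ [3, 5, 7]) : Surv ex_s62 p n T :=
surv [(3, 4, 17920), (5, 1, 290304), (7, 1, 207360)] 6 6 16 hp ho hA (by norm_num) hn (by decide +kernel) hm

def ex_o82 : List (ℕ × ℕ × ℕ) := []

theorem s_o82 {T : Type v} [Group T] {p n : ℕ} (hp : p.Prime) (ho : Nat.card T = 174182400)
    (hA : Nat.card (MulAut T) ∣ 1045094400) (hn : 7 ≤ n) (hm : p ∈ [3, 5, 7]) : Surv ex_o82 p n T :=
surv [(3, 6, 1433600), (5, 2, 41803776), (7, 1, 149299200)] 6 8 24 hp ho hA (by norm_num) hn (by decide +kernel) hm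

def ex_l34_3 : List (ℕ × ℕ × ℕ) := [(4, 3, 40), (4, 3, 20), (4, 27, 7280)]

def g_l34_3 : List (ℕ × ℕ × ℕ) := [(4, 27, 7280)]

theorem s_l34_3 {T : Type v} [Group T] {p n : ℕ} (hp : p.Prime) (ho : Nat.card T = 20160)
    (hA : Nat.card (MulAut T) ∣ 241920) (hn : 4 ≤ n) (hm : p ∈ [3]) : Surv ex_l34_3 p n T :=
surv [(3, 3, 8960)] 18 11 18 hp ho hA (by norm_num) hn (by decide +kernel) hm

def ex_l34 : List (ℕ × ℕ × ℕ) := []

theorem s_l34 {T : Type v} [Group T] {p n : ℕ} (hp : p.Prime) (ho : Nat.card T = 20160)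
    (hA : Nat.card (MulAut T) ∣ 241920) (hn : 6 ≤ n) (hm : p ∈ [5, 7]) : Surv ex_l34 p n T :=
surv [(5, 1, 48384), (7, 1, 34560)] 9 6 12 hp ho hA (by norm_num) hn (by decide +kernel) hm

def ex_g24 : List (ℕ × ℕ × ℕ) := [(12, 3, 7280)]

theorem s_g24 {T : Type v} [Group T] {p n : ℕ} (hp : p.Prime) (ho : Nat.card T = 251596800)
    (hA : Nat.card (MulAut T) ∣ 503193600) (hn : 12 ≤ n) (hm : p ∈ [3, 5, 7, 13]) : Surv ex_g24 p n T :=
surv [(3, 3, 18636800), (5, 2, 20127744), (7, 1, 71884800), (13, 1, 38707200)] 18 6 24 hp ho hA (by norm_num) hn (by decide +kernel)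
    hm

def ex_u43 : List (ℕ × ℕ × ℕ) := [(3, 4, 21), (3, 16, 315), (4, 8, 315), (6, 2, 21), (6, 4, 315), (12, 2, 315), (4,
    7, 480), (4, 7, 240)]

def g_u43 : List (ℕ × ℕ × ℕ) := [(6, 4, 315), (12, 2, 315)]

theorem s_u43 {T : Type v} [Group T] {p n : ℕ} (hp : p.Prime) (ho : Nat.card T = 3265920)
    (hA : Nat.card (MulAut T) ∣ 26127360) (hn : 3 ≤ n) (hm : p ∈ [2, 5, 7]) : Surv ex_u43 p n T :=
surv [(2, 10, 25515), (5, 1, 5225472), (7, 1, 3732480)] 17 33 32 hp ho hA (by norm_num) hn (by decide +kernel) hm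

def ex_sz8 : List (ℕ × ℕ × ℕ) := []

theorem s_sz8 {T : Type v} [Group T] {p n : ℕ} (hp : p.Prime) (ho : Nat.card T = 29120)
    (hA : Nat.card (MulAut T) ∣ 87360) (hn : 7 ≤ n) (hm : p ∈ [5, 7, 13]) : Surv ex_sz8 p n T :=
surv [(5, 1, 17472), (7, 1, 12480), (13, 1, 6720)] 6 5 10 hp ho hA (by norm_num) hn (by decide +kernel) hm

def ex_m11 : List (ℕ × ℕ × ℕ) := [(4, 8, 315), (4, 3, 40), (4, 3, 20)]

def g_m11 : List (ℕ × ℕ × ℕ) := []

theorem s_m11 {T : Type v} [Group T] {p n : ℕ} (hp : p.Prime) (ho : Nat.card T = 7920)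
    (hA : Nat.card (MulAut T) ∣ 7920) (hn : 3 ≤ n) (hm : p ∈ [2, 3, 5, 11]) : Surv ex_m11 p n T :=
surv [(2, 4, 495), (3, 2, 880), (5, 1, 1584), (11, 1, 720)] 15 21 20 hp ho hA (by norm_num) hn (by decide +kernel) hm

def ex_m12 : List (ℕ × ℕ × ℕ) := [(4, 8, 315), (4, 3, 40), (4, 3, 20)]

def g_m12 : List (ℕ × ℕ × ℕ) := []

theorem s_m12 {T : Type v} [Group T] {p n : ℕ} (hp : p.Prime) (ho : Nat.card T = 95040)
    (hA : Nat.card (MulAut T) ∣ 190080) (hn : 3 ≤ n) (hm : p ∈ [2, 3, 5, 11]) : Surv ex_m12 p n T :=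
surv [(2, 7, 1485), (3, 3, 7040), (5, 1, 38016), (11, 1, 17280)] 15 25 24 hp ho hA (by norm_num) hn (by decide +kernel) hm

def ex_m22 : List (ℕ × ℕ × ℕ) := [(3, 4, 21), (3, 16, 315), (4, 8, 315), (6, 2, 21), (6, 4, 315), (12, 2, 315), (4,
    3, 40), (4, 3, 20), (4, 27, 7280), (4, 7, 480), (4, 7, 240)]

def g_m22 : List (ℕ × ℕ × ℕ) := [(6, 4, 315), (12, 2, 315)]

theorem s_m22 {T : Type v} [Group T] {p n : ℕ} (hp : p.Prime) (ho : Nat.card T = 443520)
    (hA : Nat.card (MulAut T) ∣ 887040) (hn : 3 ≤ n) (hm : p ∈ [2, 3, 5, 7, 11]) : Surv ex_m22 p n T :=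
surv [(2, 8, 3465), (3, 2, 98560), (5, 1, 177408), (7, 1, 126720), (11, 1, 80640)] 18 27 26 hp ho hA (by norm_num)
    hn (by decide +kernel) hm

def ex_m23 : List (ℕ × ℕ × ℕ) := [(12, 2, 315)]

theorem s_m23 {T : Type v} [Group T] {p n : ℕ} (hp : p.Prime) (ho : Nat.card T = 10200960)
    (hA : Nat.card (MulAut T) ∣ 10200960) (hn : 11 ≤ n) (hm : p ∈ [2, 3, 5, 7, 11, 23]) : Surv ex_m23 p n T :=
surv [(2, 7, 79695), (3, 2, 1133440), (5, 1, 2040192), (7, 1, 1457280), (11, 1, 927360), (23, 1, 443520)] 10 6 27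
    hp ho hA (by norm_num) hn (by decide +kernel) hm

def ex_m24 : List (ℕ × ℕ × ℕ) := [(12, 2, 315)]

theorem s_m24 {T : Type v} [Group T] {p n : ℕ} (hp : p.Prime) (ho : Nat.card T = 244823040)
    (hA : Nat.card (MulAut T) ∣ 244823040) (hn : 11 ≤ n) (hm : p ∈ [2, 3, 5, 7, 11, 23]) : Surv ex_m24 p n T :=
surv [(2, 10, 239085), (3, 3, 9067520), (5, 1, 48964608), (7, 1, 34974720), (11, 1, 22256640), (23, 1, 10644480)]
    10 7 30 hp ho hA (by norm_num) hn (by decide +kernel) hm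

def ex_j1b : List (ℕ × ℕ × ℕ) := []

theorem s_j1b {T : Type v} [Group T] {p n : ℕ} (hp : p.Prime) (ho : Nat.card T = 175560)
    (hA : Nat.card (MulAut T) ∣ 175560) (hn : 7 ≤ n) (hm : p ∈ [2, 3, 5, 7, 11, 19]) : Surv ex_j1b p n T :=
surv [(2, 3, 21945), (3, 1, 58520), (5, 1, 35112), (7, 1, 25080), (11, 1, 15960), (19, 1, 9240)] 7 8 27 hp ho hA
    (by norm_num) hn (by decide +kernel) hm

def ex_j2 : List (ℕ × ℕ × ℕ) := [(3, 4, 21), (3, 16, 315), (4, 8, 315), (6, 2, 21), (6, 4, 315), (12, 2, 315), (4,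
    3, 40), (4, 3, 20), (4, 27, 7280), (4, 7, 1200), (4, 7, 800), (4, 7, 600), (4, 7, 480), (4, 7, 400), (4, 7,
    300), (4, 7, 240), (4, 7, 200)]

def g_j2 : List (ℕ × ℕ × ℕ) := [(3, 16, 315), (6, 4, 315), (12, 2, 315), (4, 7, 1200), (4, 7, 800), (4, 7, 600),
    (4, 7, 480), (4, 7, 400), (4, 7, 300), (4, 7, 240), (4, 7, 200)]

theorem s_j2 {T : Type v} [Group T] {p n : ℕ} (hp : p.Prime) (ho : Nat.card T = 604800)
    (hA : Nat.card (MulAut T) ∣ 1209600) (hn : 3 ≤ n) (hm : p ∈ [2, 3, 5, 7]) : Surv ex_j2 p n T :=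
surv [(2, 8, 4725), (3, 3, 44800), (5, 2, 48384), (7, 1, 172800)] 72 28 27 hp ho hA (by norm_num) hn (by decide +kernel) hm

def ex_j3 : List (ℕ × ℕ × ℕ) := [(4, 4, 85), (4, 4, 51), (4, 8, 315), (8, 2, 85), (8, 2, 51), (4, 3, 40), (4, 3,
    20), (4, 17, 2880)]

def g_j3 : List (ℕ × ℕ × ℕ) := []

theorem s_j3 {T : Type v} [Group T] {p n : ℕ} (hp : p.Prime) (ho : Nat.card T = 50232960)
    (hA : Nat.card (MulAut T) ∣ 100465920) (hn : 3 ≤ n) (hm : p ∈ [2, 3, 5, 17, 19]) : Surv ex_j3 p n T :=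
surv [(2, 8, 392445), (3, 5, 413440), (5, 1, 20093184), (17, 1, 5909760), (19, 1, 5287680)] 25 41 40 hp ho hA (by
    norm_num) hn (by decide +kernel) hm

def ex_suz : List (ℕ × ℕ × ℕ) := [(12, 2, 1365), (12, 2, 819), (12, 2, 585), (12, 2, 455), (12, 2, 315), (12, 2,
    273), (12, 3, 7280)]

theorem s_suz {T : Type v} [Group T] {p n : ℕ} (hp : p.Prime) (ho : Nat.card T = 448345497600)
    (hA : Nat.card (MulAut T) ∣ 896690995200) (hn : 12 ≤ n) (hm : p ∈ [2, 3, 5, 7, 11, 13]) : Surv ex_suz p n T :=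
surv [(2, 14, 54729675), (3, 7, 410009600), (5, 2, 35867639808), (7, 1, 128098713600), (11, 1, 81517363200), (13,
    1, 68976230400)] 93 8 45 hp ho hA (by norm_num) hn (by decide +kernel) hm

/-- the survivors in degree `3, …, 12` (`A_c`, `c ≥ 9`, not treated) -/
def SmSurv (p n q m : ℕ) (T : Type v) [Group T] : Prop :=
  (p = 3 ∧ Nonempty (T ≃* alternatingGroup (Fin 5))) ∨
  (Nonempty (T ≃* alternatingGroup (Fin 6)) ∧ p = 2 ∧ (n, q, m) ∈ ex_a6) ∨
  (Nonempty (T ≃* alternatingGroup (Fin 7)) ∧ (n, q, m) ∈ g_a7) ∨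
  (∃ c, 9 ≤ c ∧ Nonempty (T ≃* alternatingGroup (Fin c))) ∨
  (IsL 2 7 T ∧ p = 3 ∧ (n, q, m) ∈ ex_l2_7) ∨
  (IsL 2 13 T ∧ (n, q, m) ∈ g_l2_13) ∨
  (IsL 2 17 T ∧ (n, q, m) ∈ ex_l2_17) ∨
  (IsU 3 3 T ∧ (n, q, m) ∈ ex_u33) ∨
  (IsL 3 4 T ∧ p = 3 ∧ (n, q, m) ∈ g_l34_3) ∨
  (H912.Bd.IsG2 4 T ∧ (n, q, m) ∈ ex_g24) ∨
  (IsU 4 3 T ∧ (n, q, m) ∈ g_u43) ∨
  (Spor.IsoM22 T ∧ (n, q, m) ∈ g_m22) ∨
  (Spor.IsoJ1 T ∧ p = 11 ∧ n ≤ 6) ∨
  (Spor.IsoJ2 T ∧ (n, q, m) ∈ [(6, 4, 315), (12, 2, 315)]) ∨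
  (Spor.IsoSuz T ∧ (n, q, m) ∈ [(12, 3, 7280)])

section

variable {F : Type u} [Field F] [Finite F] {n p : ℕ} [hp : Fact p.Prime] [CharP F p]
  {P : Subgroup (Matrix.GeneralLinearGroup (Fin n) F)}

theorem nil {ex : List (ℕ × ℕ × ℕ)} {n q m : ℕ} (he : ex = []) (h : (n, q, m) ∈ ex) : False := by
  rw [he] at h
  exact List.not_mem_nil h

/-- the condition `o ∣ |GL_n(q)|` -/
def gl (o : ℕ) (ex : List (ℕ × ℕ × ℕ)) : List (ℕ × ℕ × ℕ) :=
  ex.filter fun x => Nat.beq (H742.HT.glOrd x.2.1 x.1 % o) 0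

theorem filt {o n q m : ℕ} {ex ex' : List (ℕ × ℕ × ℕ)} (h : (n, q, m) ∈ ex) (hg : o ∣ H742.HT.glOrd q n)
    (he : gl o ex = ex') : (n, q, m) ∈ ex' := by
  rw [← he, gl, List.mem_filter]
  exact ⟨h, by rw [Nat.beq_eq]; exact Nat.mod_eq_zero_of_dvd hg⟩

theorem two_ne (hp2 : p ≠ 2) : (2 : F) ≠ 0 := H64.HTCop.two_ne0 p hp2

/-- `|Aut T|` for a group with known `Out` -/
theorem aut_dvd {T : Type v} [Group T] {o k A : ℕ} (ho : Nat.card T = o) (ho0 : 0 < o)
    (hk : Nat.card (Cfsg.Out T) = k) (hA : k * o = A) : Nat.card (MulAut T) ∣ A := by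
  have hfin : Finite T := Nat.finite_of_card_ne_zero (by rw [ho]; omega)
  have h3 := H713.card_mulAut_dvd (S := T) (o := k) (by rw [hk])
  rwa [ho, hA] at h3

theorem l2_mem (hC : Core P) (hn : n ≤ 12) {s : ℕ} (h5 : 5 ≤ s) (h9 : s ≠ 9) (hps : ¬ p ∣ s) (h : IsL 2 s (Soc P)) :
    (s = 5 ∧ n ∈ ({2, 3, 4, 5, 6} : Finset ℕ)) ∨ (s = 7 ∧ n ∈ ({3, 4, 6, 7, 8} : Finset ℕ)) ∨
    (s = 8 ∧ n ∈ ({7, 8, 9} : Finset ℕ)) ∨ (s = 11 ∧ n ∈ ({5, 6, 10, 11, 12} : Finset ℕ)) ∨
    (s = 13 ∧ n ∈ ({6, 7, 12} : Finset ℕ)) ∨ (s = 17 ∧ n ∈ ({8, 9} : Finset ℕ)) ∨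
    (s = 19 ∧ n ∈ ({9, 10} : Finset ℕ)) ∨ (s = 23 ∧ n ∈ ({11, 12} : Finset ℕ)) ∨ (s = 25 ∧ n = 12) := by
  obtain ⟨K, iF, iT, hK, ⟨e⟩⟩ := h
  have h1 := H464.Sl2.l2_degrees p hC (K := K) (by rw [hK]; omega) (by rw [hK]; omega) (by rw [hK]; exact hps) e
    (by rw [Fintype.card_fin]; exact hn)
  rwa [hK, Fintype.card_fin] at h1

/-- a group of Lie type in characteristic `r` is not the present one if `p = r` -/
theorem ne_of_lie {T : Type v} [Group T] {r : ℕ} (hL : ¬ IsLieTypeChar p T) (h : IsLieTypeChar r T) : p ≠ r := by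
  rintro rfl
  exact hL h

/-- primes of the order -/
theorem pr {T : Type v} [Group T] {o : ℕ} (ho : Nat.card T = o) (hpT : p ∣ Nat.card T) (l : List ℕ)
    (hl : ∀ x ∈ l, x.Prime) (h : Nat.beq (l.prod ^ 50 % o) 0 = true) : p ∈ l :=
  mem_of_dvd hp.out l hl h (ho ▸ hpT)

/-! ### Alternating groups -/

theorem sm_alt (hC : Core P) (h3 : 3 ≤ n) (hn : n ≤ 12) (hL : ¬ IsLieTypeChar p (Soc P)) (hpT : p ∣ Nat.card (Soc P))
    (h : AltC p n (Soc P)) {k m h' : ℕ} (hk : 1 ≤ k)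
    (hc : CP (Nat.card (Soc P)) (Nat.card (MulAut (Soc P))) n (p ^ k) m h')
    (hg : Nat.card (Soc P) ∣ H742.HT.glOrd (p ^ k) n) : SmSurv p n (p ^ k) m (Soc P) := by
  obtain ⟨c, h5, h14, -, -, -, ⟨e⟩⟩ := h
  have hcard := Nat.card_congr e.toEquiv
  have haut := Nat.card_congr (MulAut.congr e).toEquiv
  by_cases h9 : 9 ≤ c
  · exact Or.inr (Or.inr (Or.inr (Or.inl ⟨c, h9, ⟨e⟩⟩)))
  have hm : c = 5 ∨ c = 6 ∨ c = 7 ∨ c = 8 := by omega
  rcases hm with rfl | rfl | rfl | rfl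
  · refine Or.inl ⟨?_, ⟨e⟩⟩
    have h60 : Nat.card (Soc P) = 60 := hcard.trans (H348.HT.card_alt 5 (by norm_num) (by decide))
    have h1 := pr h60 hpT [2, 3, 5] (by simp only [List.mem_cons, List.not_mem_nil, or_false]; rintro x (rfl | rfl | rfl) <;> norm_num) (by decide)
    have h2 : p ≠ 2 := ne_of_lie hL (lie_of_isL Nat.prime_two (q := 4) (by norm_num) le_rfl (by norm_num)
      (by
        obtain ⟨K, iF, iT, hK⟩ := exists_field Nat.prime_two (k := 2) (by norm_num)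
        obtain ⟨e'⟩ := S0252.result (F := K) (by rw [hK]; norm_num)
        exact ⟨K, iF, iT, by rw [hK]; norm_num, ⟨e.trans e'.symm⟩⟩))
    have h5' : p ≠ 5 := ne_of_lie hL (lie_of_isL Nat.prime_five (q := 5) (by norm_num) le_rfl (by norm_num)
      (by
        obtain ⟨K, iF, iT, hK⟩ := exists_field Nat.prime_five (k := 1) (by norm_num)
        obtain ⟨e'⟩ := S0253.result (F := K) (by rw [hK]; norm_num)
        exact ⟨K, iF, iT, by rw [hK]; norm_num, ⟨e.trans e'.symm⟩⟩))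
    simp only [List.mem_cons, List.not_mem_nil, or_false] at h1
    omega
  · have h60 : Nat.card (Soc P) = 360 := hcard.trans (H348.HT.card_alt 6 (by norm_num) (by decide))
    have h1 := pr h60 hpT [2, 3, 5] (by simp only [List.mem_cons, List.not_mem_nil, or_false]; rintro x (rfl | rfl | rfl) <;> norm_num) (by decide)
    have h2 : p ≠ 3 := ne_of_lie hL (lie_of_isL Nat.prime_three (q := 9) (by norm_num) le_rfl (by norm_num)
      (by
        obtain ⟨K, iF, iT, hK⟩ := exists_field Nat.prime_three (k := 2) (by norm_num)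
        obtain ⟨e'⟩ := S0254.result (F := K) (by rw [hK]; norm_num)
        exact ⟨K, iF, iT, by rw [hK]; norm_num, ⟨e.trans e'.symm⟩⟩))
    have h4 := s_a6 hp.out h60 (haut ▸ H753.ResCard.card_mulAut_A6) h3 (by
      simp only [List.mem_cons, List.not_mem_nil, or_false] at h1 ⊢; omega) k m h' hk hc
    refine Or.inr (Or.inl ⟨⟨e⟩, ?_, h4⟩)
    simp only [ex_a6, List.mem_cons, List.not_mem_nil, or_false, Prod.mk.injEq] at h4
    have h5' : p ∣ 8 := by
      rw [← h4.2.1]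
      exact dvd_pow_self p (by omega)
    exact (Nat.prime_dvd_prime_iff_eq hp.out Nat.prime_two).1 (hp.out.dvd_of_dvd_pow (show p ∣ 2 ^ 3 from h5'))
  · have h60 : Nat.card (Soc P) = 2520 := hcard.trans (H348.HT.card_alt 7 (by norm_num) (by decide))
    have h1 := pr h60 hpT [2, 3, 5, 7] (by simp only [List.mem_cons, List.not_mem_nil, or_false]; rintro x (rfl | rfl | rfl | rfl) <;> norm_num) (by decide)
    exact Or.inr (Or.inr (Or.inl ⟨⟨e⟩, filt (s_a7 hp.out h60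
      (by rw [haut, H348.HT.card_aut_alt 7 (by norm_num) (by norm_num)]; decide) h3 h1 k m h' hk hc) (h60 ▸ hg)
      (by decide +kernel)⟩))
  · exfalso
    have h60 : Nat.card (Soc P) = 20160 := hcard.trans (H348.HT.card_alt 8 (by norm_num) (by decide))
    have h1 := pr h60 hpT [2, 3, 5, 7] (by simp only [List.mem_cons, List.not_mem_nil, or_false]; rintro x (rfl | rfl | rfl | rfl) <;> norm_num) (by decide)
    have h2 : p ≠ 2 := ne_of_lie hL (lie_of_isL Nat.prime_two (q := 2) (m := 4) (by norm_num) (by norm_num) (by norm_num)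
      (by
        obtain ⟨K, iF, iT, hK⟩ := exists_field Nat.prime_two (k := 1) (by norm_num)
        obtain ⟨e'⟩ := S0256.result (F := K) (by rw [hK]; norm_num)
        exact ⟨K, iF, iT, by rw [hK]; norm_num, ⟨e.trans e'.symm⟩⟩))
    have h4 := s_a8 hp.out h60 (by rw [haut, H348.HT.card_aut_alt 8 (by norm_num) (by norm_num)]; decide) h3 (by
      simp only [List.mem_cons, List.not_mem_nil, or_false] at h1 ⊢; omega) k m h' hk hc
    have h5' : n = 4 := by
      simp only [ex_a8, List.mem_cons, List.not_mem_nil, or_false, Prod.mk.injEq] at h4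
      omega
    subst h5'
    exact H908.not_four_alt (two_ne h2) hC.perfect le_rfl ⟨e⟩ (MulEquiv.refl _)

/-! ### Groups of Lie type -/

theorem sm_l2 (hC : Core P) (h3 : 3 ≤ n) (hn : n ≤ 12) (hL : ¬ IsLieTypeChar p (Soc P)) (hpT : p ∣ Nat.card (Soc P))
    {s : ℕ} (hs : s ∈ ({7, 8, 11, 13, 17, 19, 23, 25} : Finset ℕ)) (hps : ¬ p ∣ s) (h : IsL 2 s (Soc P)) {k m h' : ℕ}
    (hk : 1 ≤ k) (hc : CP (Nat.card (Soc P)) (Nat.card (MulAut (Soc P))) n (p ^ k) m h')
    (hg : Nat.card (Soc P) ∣ H742.HT.glOrd (p ^ k) n) : SmSurv p n (p ^ k) m (Soc P) := by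
  simp only [Finset.mem_insert, Finset.mem_singleton] at hs
  have hd := l2_mem hC hn (s := s) (by omega) (by omega) hps h
  simp only [Finset.mem_insert, Finset.mem_singleton] at hd
  rcases hs with rfl | rfl | rfl | rfl | rfl | rfl | rfl | rfl
  · have ho := H530.HT.card_l2 (N := 168) h (by norm_num)
    have h1 := pr ho hpT [2, 3, 7] (by simp only [List.mem_cons, List.not_mem_nil, or_false]; rintro x (rfl | rfl | rfl) <;> norm_num) (by decide)
    have h2 : p ≠ 2 := ne_of_lie hL (lie_of_isL Nat.prime_two (by norm_num) (by norm_num) (by norm_num) (l32_of_l27 h))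
    have h7 : p ≠ 7 := by
      rintro rfl
      exact hps dvd_rfl
    have hp3 : p = 3 := by
      simp only [List.mem_cons, List.not_mem_nil, or_false] at h1
      omega
    exact Or.inr (Or.inr (Or.inr (Or.inr (Or.inl ⟨h, hp3, s_l2_7 hp.out ho
      (H530.HT.aut_l2 (p := 7) (f := 1) (N := 336) h (by norm_num) le_rfl (by norm_num) (by norm_num)
        (by norm_num)).dvd (by omega) (by simp [hp3]) k m h' hk hc⟩))))
  · exfalso
    have ho := H530.HT.card_l2 (N := 504) h (by norm_num)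
    have h1 := pr ho hpT [2, 3, 7] (by simp only [List.mem_cons, List.not_mem_nil, or_false]; rintro x (rfl | rfl | rfl) <;> norm_num) (by decide)
    have h2 : p ≠ 2 := by
      rintro rfl
      exact hps (by norm_num)
    exact nil rfl (s_l2_8 hp.out ho
      (H530.HT.aut_l2 (p := 2) (f := 3) (N := 1512) h (by norm_num) (by norm_num) (by norm_num) (by norm_num)
        (by norm_num)).dvd (by omega) (by simp only [List.mem_cons, List.not_mem_nil, or_false] at h1 ⊢; omega) k m h' hk hc)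
  · exfalso
    have ho := H530.HT.card_l2 (N := 660) h (by norm_num)
    have h1 := pr ho hpT [2, 3, 5, 11] (by simp only [List.mem_cons, List.not_mem_nil, or_false]; rintro x (rfl | rfl | rfl | rfl) <;> norm_num) (by decide)
    have h2 : p ≠ 11 := by
      rintro rfl
      exact hps dvd_rfl
    exact nil rfl (s_l2_11 hp.out ho
      (H530.HT.aut_l2 (p := 11) (f := 1) (N := 1320) h (by norm_num) (by norm_num) (by norm_num) (by norm_num)
        (by norm_num)).dvd (by omega) (by simp only [List.mem_cons, List.not_mem_nil, or_false] at h1 ⊢; omega) k m h' hk hc)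
  · have ho := H530.HT.card_l2 (N := 1092) h (by norm_num)
    have h1 := pr ho hpT [2, 3, 7, 13] (by simp only [List.mem_cons, List.not_mem_nil, or_false]; rintro x (rfl | rfl | rfl | rfl) <;> norm_num) (by decide)
    have h2 : p ≠ 13 := by
      rintro rfl
      exact hps dvd_rfl
    exact Or.inr (Or.inr (Or.inr (Or.inr (Or.inr (Or.inl ⟨h, filt (s_l2_13 hp.out ho
      (H530.HT.aut_l2 (p := 13) (f := 1) (N := 2184) h (by norm_num) (by norm_num) (by norm_num) (by norm_num)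
        (by norm_num)).dvd (by omega) (by simp only [List.mem_cons, List.not_mem_nil, or_false] at h1 ⊢; omega) k m h' hk hc)
      (ho ▸ hg) (by decide +kernel)⟩)))))
  · have ho := H530.HT.card_l2 (N := 2448) h (by norm_num)
    have h1 := pr ho hpT [2, 3, 17] (by simp only [List.mem_cons, List.not_mem_nil, or_false]; rintro x (rfl | rfl | rfl) <;> norm_num) (by decide)
    have h2 : p ≠ 17 := by
      rintro rfl
      exact hps dvd_rfl
    exact Or.inr (Or.inr (Or.inr (Or.inr (Or.inr (Or.inr (Or.inl ⟨h, s_l2_17 hp.out ho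
      (H530.HT.aut_l2 (p := 17) (f := 1) (N := 4896) h (by norm_num) (by norm_num) (by norm_num) (by norm_num)
        (by norm_num)).dvd (by omega) (by simp only [List.mem_cons, List.not_mem_nil, or_false] at h1 ⊢; omega) k m h' hk hc⟩))))))
  · exfalso
    have ho := H530.HT.card_l2 (N := 3420) h (by norm_num)
    have h1 := pr ho hpT [2, 3, 5, 19] (by simp only [List.mem_cons, List.not_mem_nil, or_false]; rintro x (rfl | rfl | rfl | rfl) <;> norm_num) (by decide)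
    have h2 : p ≠ 19 := by
      rintro rfl
      exact hps dvd_rfl
    exact nil rfl (s_l2_19 hp.out ho
      (H530.HT.aut_l2 (p := 19) (f := 1) (N := 6840) h (by norm_num) (by norm_num) (by norm_num) (by norm_num)
        (by norm_num)).dvd (by omega) (by simp only [List.mem_cons, List.not_mem_nil, or_false] at h1 ⊢; omega) k m h' hk hc)
  · exfalso
    have ho := H530.HT.card_l2 (N := 6072) h (by norm_num)
    have h1 := pr ho hpT [2, 3, 11, 23] (by simp only [List.mem_cons, List.not_mem_nil, or_false]; rintro x (rfl | rfl | rfl | rfl) <;> norm_num) (by decide)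
    have h2 : p ≠ 23 := by
      rintro rfl
      exact hps dvd_rfl
    exact nil rfl (s_l2_23 hp.out ho
      (H530.HT.aut_l2 (p := 23) (f := 1) (N := 12144) h (by norm_num) (by norm_num) (by norm_num) (by norm_num)
        (by norm_num)).dvd (by omega) (by simp only [List.mem_cons, List.not_mem_nil, or_false] at h1 ⊢; omega) k m h' hk hc)
  · exfalso
    have ho := H530.HT.card_l2 (N := 7800) h (by norm_num)
    have h1 := pr ho hpT [2, 3, 5, 13] (by simp only [List.mem_cons, List.not_mem_nil, or_false]; rintro x (rfl | rfl | rfl | rfl) <;> norm_num) (by decide)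
    have h2 : p ≠ 5 := by
      rintro rfl
      exact hps (by norm_num)
    exact nil rfl (s_l2_25 hp.out ho
      (H530.HT.aut_l2 (p := 5) (f := 2) (N := 31200) h (by norm_num) (by norm_num) (by norm_num) (by norm_num)
        (by norm_num)).dvd (by omega) (by simp only [List.mem_cons, List.not_mem_nil, or_false] at h1 ⊢; omega) k m h' hk hc)

theorem sm_lie (hC : Core P) (h3 : 3 ≤ n) (hn : n ≤ 12) (hL : ¬ IsLieTypeChar p (Soc P)) (hpT : p ∣ Nat.card (Soc P))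
    (h : LieC p n (Soc P) ∨ MultD p n (Soc P)) {k m h' : ℕ} (hk : 1 ≤ k)
    (hc : CP (Nat.card (Soc P)) (Nat.card (MulAut (Soc P))) n (p ^ k) m h')
    (hg : Nat.card (Soc P) ∣ H742.HT.glOrd (p ^ k) n) : SmSurv p n (p ^ k) m (Soc P) := by
  have hu42 : 4 ≤ n → IsU 4 2 (Soc P) → SmSurv p n (p ^ k) m (Soc P) := fun h4 h => by
    exfalso
    have ho := H530.HT.card_u42 h
    have h1 := pr ho hpT [2, 3, 5] (by simp only [List.mem_cons, List.not_mem_nil, or_false]; rintro x (rfl | rfl | rfl) <;> norm_num) (by decide)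
    have h2 : p ≠ 2 := ne_of_lie hL (lie_of_isU Nat.prime_two (by norm_num) (by norm_num) (by norm_num) h)
    have h5 : p ≠ 3 := ne_of_lie hL (lie_of_isS Nat.prime_three (by norm_num) (by norm_num) (by norm_num) (s23_of_u42 h))
    exact nil rfl (s_u42 hp.out ho (H93.UG.v_u42 h).dvd h4
      (by simp only [List.mem_cons, List.not_mem_nil, or_false] at h1 ⊢; omega) k m h' hk hc)
  have hs32 : 7 ≤ n → IsS 3 2 (Soc P) → SmSurv p n (p ^ k) m (Soc P) := fun h4 h => by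
    exfalso
    have ho := H530.HT.card_s32 h
    have h1 := pr ho hpT [2, 3, 5, 7] (by simp only [List.mem_cons, List.not_mem_nil, or_false]; rintro x (rfl | rfl | rfl | rfl) <;> norm_num) (by decide)
    have h2 : p ≠ 2 := ne_of_lie hL (lie_of_isS Nat.prime_two (by norm_num) (by norm_num) (by norm_num) h)
    exact nil rfl (s_s62 hp.out ho (H93.UG.v_s32 h).dvd h4
      (by simp only [List.mem_cons, List.not_mem_nil, or_false] at h1 ⊢; omega) k m h' hk hc)
  have ho82 : 7 ≤ n → IsOP 4 2 (Soc P) → SmSurv p n (p ^ k) m (Soc P) := fun h4 h => by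
    exfalso
    have ho := H530.HT.card_op42 h
    have h1 := pr ho hpT [2, 3, 5, 7] (by simp only [List.mem_cons, List.not_mem_nil, or_false]; rintro x (rfl | rfl | rfl | rfl) <;> norm_num) (by decide)
    have h2 : p ≠ 2 := ne_of_lie hL (lie_of_isOP Nat.prime_two (by norm_num) (by norm_num) h)
    exact nil rfl (s_o82 hp.out ho (H93.UG.aut_op42 h).dvd h4
      (by simp only [List.mem_cons, List.not_mem_nil, or_false] at h1 ⊢; omega) k m h' hk hc)
  rcases h with (⟨s, hs, hps, -, h⟩ | ⟨hp3, h8, h⟩ | ⟨hp3, h66, h⟩ | ⟨hp2, h12, h⟩ | ⟨-, -, h4, h⟩ | ⟨hp2, h8, h⟩ | ⟨hp5, h12, h⟩ |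
    ⟨-, h7, h⟩ | ⟨-, h7, h⟩) | (⟨hp2, h2, h | h | ⟨-, h⟩ | h | h | h⟩ | ⟨hp3, h3', h⟩)
  · exact sm_l2 hC h3 hn hL hpT hs hps h hk hc hg
  · exfalso
    have ho := H530.HT.card_l3 (N := 5616) h (by norm_num) (by norm_num) (by simp only [Fin.prod_univ_succ, _root_.Nat.add_one_sub_one, _root_.Nat.reduceGcd, _root_.Nat.reduceMul, _root_.one_mul, _root_.Nat.reducePow, _root_.Fin.isValue, _root_.Fin.coe_ofNat_eq_mod, _root_.Nat.zero_mod, _root_.pow_zero, _root_.Fin.val_succ, _root_.zero_add, _root_.pow_one, _root_.Nat.reduceSub, _root_.Finset.univ_unique, _root_.Fin.default_eq_zero, _root_.Fin.val_eq_zero, _root_.Nat.reduceAdd, _root_.Finset.prod_const, _root_.Finset.card_singleton])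
    have h1 := pr ho hpT [2, 3, 13] (by simp only [List.mem_cons, List.not_mem_nil, or_false]; rintro x (rfl | rfl | rfl) <;> norm_num) (by decide)
    exact nil rfl (s_l33 hp.out ho (H93.UG.v_l33 h).dvd h8
      (by simp only [List.mem_cons, List.not_mem_nil, or_false] at h1 ⊢; omega) k m h' hk hc)
  · have ho := H530.HT.card_u33 h
    have h1 := pr ho hpT [2, 3, 7] (by simp only [List.mem_cons, List.not_mem_nil, or_false]; rintro x (rfl | rfl | rfl) <;> norm_num) (by decide)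
    exact Or.inr (Or.inr (Or.inr (Or.inr (Or.inr (Or.inr (Or.inr (Or.inl ⟨h, s_u33 hp.out ho (H93.UG.v_u33 h).dvd h66
      (by simp only [List.mem_cons, List.not_mem_nil, or_false] at h1 ⊢; omega) k m h' hk hc⟩)))))))
  · exfalso
    have ho : Nat.card (Soc P) = 62400 := by
      obtain ⟨K, iF, iT, hK, ⟨e⟩⟩ := h
      rw [Nat.card_congr e.toEquiv, H930.HT.card_u34 hK]
    have h1 := pr ho hpT [2, 3, 5, 13] (by simp only [List.mem_cons, List.not_mem_nil, or_false]; rintro x (rfl | rfl | rfl | rfl) <;> norm_num) (by decide)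
    exact nil rfl (s_u34 hp.out ho (H93.UG.v_u34 h).dvd h12
      (by simp only [List.mem_cons, List.not_mem_nil, or_false] at h1 ⊢; omega) k m h' hk hc)
  · exact hu42 h4 h
  · exfalso
    have ho := H530.HT.card_u52 h
    have h1 := pr ho hpT [2, 3, 5, 11] (by simp only [List.mem_cons, List.not_mem_nil, or_false]; rintro x (rfl | rfl | rfl | rfl) <;> norm_num) (by decide)
    exact nil rfl (s_u52 hp.out ho (H93.UG.v_u52 h).dvd h8
      (by simp only [List.mem_cons, List.not_mem_nil, or_false] at h1 ⊢; omega) k m h' hk hc)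
  · exfalso
    have ho := H530.HT.card_s25 h
    have h1 := pr ho hpT [2, 3, 5, 13] (by simp only [List.mem_cons, List.not_mem_nil, or_false]; rintro x (rfl | rfl | rfl | rfl) <;> norm_num) (by decide)
    have h4 := s_s45 hp.out ho (H93.UG.v_s25 h).dvd h12
      (by simp only [List.mem_cons, List.not_mem_nil, or_false] at h1 ⊢; omega) k m h' hk hc
    simp only [ex_s45, List.mem_cons, List.not_mem_nil, or_false, Prod.mk.injEq] at h4
    obtain ⟨rfl, h5, -⟩ := h4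
    rw [ho, h5] at hg
    revert hg
    decide +kernel
  · exact hs32 h7 h
  · exact ho82 h7 h
  · refine sm_l2 hC h3 hn hL hpT (s := 7) (by decide) ?_ h hk hc hg
    intro hd
    have h7 : p = 7 := (Nat.prime_dvd_prime_iff_eq hp.out (by norm_num)).1 hd
    subst h7
    exact hL (lie_of_isL hp.out dvd_rfl (by norm_num) (by norm_num) h)
  · have ho := H530.HT.card_l3 (N := 20160) h (by norm_num) (by norm_num) (by simp only [Fin.prod_univ_succ, _root_.Nat.add_one_sub_one, _root_.Nat.gcd_self, _root_.Nat.reduceMul, _root_.Nat.reducePow, _root_.Fin.isValue, _root_.Fin.coe_ofNat_eq_mod, _root_.Nat.zero_mod, _root_.pow_zero, _root_.Fin.val_succ, _root_.zero_add, _root_.pow_one, _root_.Nat.reduceSub, _root_.Finset.univ_unique, _root_.Fin.default_eq_zero, _root_.Fin.val_eq_zero, _root_.Nat.reduceAdd, _root_.Finset.prod_const, _root_.Finset.card_singleton])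
    have h1 := pr ho hpT [2, 3, 5, 7] (by simp only [List.mem_cons, List.not_mem_nil, or_false]; rintro x (rfl | rfl | rfl | rfl) <;> norm_num) (by decide)
    by_cases hp3 : p = 3
    · exact Or.inr (Or.inr (Or.inr (Or.inr (Or.inr (Or.inr (Or.inr (Or.inr (Or.inl ⟨h, hp3, filt (s_l34_3 hp.out ho
        (H93.UG.v_l34 h).dvd (by omega) (by simp [hp3]) k m h' hk hc) (ho ▸ hg) (by decide +kernel)⟩))))))))
    · exfalso
      have h4 := s_l34 hp.out ho (H93.UG.v_l34 h).dvd (n := n)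
      by_cases h8 : 6 ≤ n
      · exact nil rfl (h4 h8 (by simp only [List.mem_cons, List.not_mem_nil, or_false] at h1 ⊢; omega) k m h' hk hc)
      · obtain ⟨K, i1, i2, hK, ⟨e⟩⟩ := h
        have h5 : n = 4 := by omega
        subst h5
        exact H906.T14.not_four_L34 (by exact_mod_cast H64.HTCop.cast_ne0 (F := F) p Nat.prime_three hp3) hC.perfect hK e
  · exact hu42 (by omega) h
  · have h4 := H64.HTCop.two_ne0 (F := F) p hp2
    refine hs32 ?_ h
    obtain ⟨K, i1, i2, hK, ⟨e⟩⟩ := h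
    have := H916.SpSix.spSix_dim (H64.HTCop.zero_or_one hK) hC e h4 (by simp only [_root_.Fintype.card_fin]; omega)
    simp only [_root_.Fintype.card_fin] at this
    omega
  · have h4 := H64.HTCop.two_ne0 (F := F) p hp2
    refine ho82 ?_ h
    obtain ⟨K, i1, i2, hK, ⟨e⟩⟩ := h
    have := H916.Om.omega_dim (H64.HTCop.zero_or_one hK) hC e h4 (by simp only [_root_.Fintype.card_fin]; omega)
    simp at this
    omega
  · have h4 := H64.HTCop.two_ne0 (F := F) p hp2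
    have h12 : 12 ≤ n := by
      obtain ⟨K, i1, i2, hK, ⟨e⟩⟩ := h
      have := H937.G24.core_ge hK h4 e
      simpa only [_root_.ge_iff_le, _root_.Fintype.card_fin] using this
    have ho := H530.HT.card_g24 h
    have h1 := pr ho hpT [2, 3, 5, 7, 13] (by simp only [List.mem_cons, List.not_mem_nil, or_false]; rintro x (rfl | rfl | rfl | rfl | rfl) <;> norm_num) (by decide)
    exact Or.inr (Or.inr (Or.inr (Or.inr (Or.inr (Or.inr (Or.inr (Or.inr (Or.inr (Or.inl ⟨h, s_g24 hp.out ho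
      (H93.UG.aut_g24 h).dvd h12 (by simp only [List.mem_cons, List.not_mem_nil, or_false] at h1 ⊢; omega) k m h' hk hc⟩)))))))))
  · have ho := H530.HT.card_u43 h
    have h1 := pr ho hpT [2, 3, 5, 7] (by simp only [List.mem_cons, List.not_mem_nil, or_false]; rintro x (rfl | rfl | rfl | rfl) <;> norm_num) (by decide)
    exact Or.inr (Or.inr (Or.inr (Or.inr (Or.inr (Or.inr (Or.inr (Or.inr (Or.inr (Or.inr (Or.inl ⟨h, filt (s_u43 hp.out ho
      (H93.UG.v_u43 h).dvd h3 (by simp only [List.mem_cons, List.not_mem_nil, or_false] at h1 ⊢; omega) k m h' hk hc)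
      (ho ▸ hg) (by decide +kernel)⟩))))))))))

/-! ### `Sz(8)` -/

theorem sm_sz (hC : Core P) (hn : n ≤ 12) (hp2 : p ≠ 2) (h : IsSz8 (Soc P)) (hpT : p ∣ Nat.card (Soc P)) {k m h' : ℕ}
    (hk : 1 ≤ k) (hc : CP (Nat.card (Soc P)) (Nat.card (MulAut (Soc P))) n (p ^ k) m h') : False := by
  have h8 := (H814.Sz8.core_sz8 hC (two_ne hp2) (by rw [Fintype.card_fin]; exact hn) h).1
  rw [Fintype.card_fin] at h8
  obtain ⟨K, iK, iKf, hK, ⟨e⟩⟩ := h
  have hK' : Fintype.card K = 2 ^ (2 * 1 + 1) := by rw [hK]; norm_num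
  have hcard := Nat.card_congr e.toEquiv
  have haut := Nat.card_congr (MulAut.congr e).toEquiv
  have h1 : Nat.card ↥(Cfsg.Lie.Sz K 4) = 29120 := by
    refine (S1163.result (m := 1) le_rfl hK').1.trans ?_
    norm_num
  have h2 : Nat.card (Cfsg.Out ↥(Cfsg.Lie.Sz K 4)) = 3 := S2126.result (m := 1) le_rfl hK'
  have ho : Nat.card (Soc P) = 29120 := hcard.trans h1
  have h3 := pr ho hpT [2, 5, 7, 13] (by simp only [List.mem_cons, List.not_mem_nil, or_false]; rintro x (rfl | rfl | rfl | rfl) <;> norm_num) (by decide)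
  exact nil rfl (s_sz8 hp.out ho (haut ▸ aut_dvd h1 (by norm_num) h2 (by norm_num)) (by omega)
    (by simp only [List.mem_cons, List.not_mem_nil, or_false] at h3 ⊢; (clear * - hp2 h3; omega)) k m h' hk hc)

/-! ### Sporadic groups -/

theorem sm_spor (hC : Core P) (h3 : 3 ≤ n) (hn : n ≤ 12) (hpT : p ∣ Nat.card (Soc P)) (h : SporC (Soc P))
    {k m h' : ℕ} (hk : 1 ≤ k) (hc : CP (Nat.card (Soc P)) (Nat.card (MulAut (Soc P))) n (p ^ k) m h')
    (hg : Nat.card (Soc P) ∣ H742.HT.glOrd (p ^ k) n) (hF : Nat.card F - 1 ∣ p ^ k - 1) :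
    SmSurv p n (p ^ k) m (Soc P) := by
  have hce : ∀ {T : Type} [Group T] (_ : Soc P ≃* T), Nat.card (Soc P) = Nat.card T := fun e => Nat.card_congr e.toEquiv
  have hae : ∀ {T : Type} [Group T] (_ : Soc P ≃* T), Nat.card (MulAut (Soc P)) = Nat.card (MulAut T) :=
    fun e => Nat.card_congr (MulAut.congr e).toEquiv
  rcases h with ⟨⟨e⟩⟩ | ⟨⟨e⟩⟩ | ⟨⟨e⟩⟩ | ⟨⟨e⟩⟩ | ⟨⟨e⟩⟩ | h | ⟨⟨e⟩⟩ | ⟨K, _, _, ω, hK, hω, ⟨e⟩⟩ | ⟨⟨e⟩⟩
  · exfalso
    have ho := (hce e).trans H852.IMMathieu.card_M11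
    have h1 := pr ho hpT [2, 3, 5, 11] (by simp only [List.mem_cons, List.not_mem_nil, or_false]; rintro x (rfl | rfl | rfl | rfl) <;> norm_num) (by decide)
    exact nil rfl (filt (s_m11 hp.out ho ((hae e) ▸ aut_dvd H852.IMMathieu.card_M11 (by norm_num) S2060.result (by norm_num))
      h3 h1 k m h' hk hc) (ho ▸ hg) (ex' := g_m11) (by decide +kernel))
  · exfalso
    have ho := (hce e).trans H852.IMMathieu.card_M12
    have h1 := pr ho hpT [2, 3, 5, 11] (by simp only [List.mem_cons, List.not_mem_nil, or_false]; rintro x (rfl | rfl | rfl | rfl) <;> norm_num) (by decide)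
    exact nil rfl (filt (s_m12 hp.out ho ((hae e) ▸ aut_dvd H852.IMMathieu.card_M12 (by norm_num) S2061.result (by norm_num))
      h3 h1 k m h' hk hc) (ho ▸ hg) (ex' := g_m12) (by decide +kernel))
  · have ho := (hce e).trans H852.IMMathieu.card_M22
    have h1 := pr ho hpT [2, 3, 5, 7, 11] (by simp only [List.mem_cons, List.not_mem_nil, or_false]; rintro x (rfl | rfl | rfl | rfl | rfl) <;> norm_num) (by decide)
    exact Or.inr (Or.inr (Or.inr (Or.inr (Or.inr (Or.inr (Or.inr (Or.inr (Or.inr (Or.inr (Or.inr (Or.inl ⟨⟨e⟩, filt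
      (s_m22 hp.out ho ((hae e) ▸ aut_dvd H852.IMMathieu.card_M22 (by norm_num) S2062.result (by norm_num))
      h3 h1 k m h' hk hc) (ho ▸ hg) (by decide +kernel)⟩)))))))))))
  · exfalso
    have ho := (hce e).trans H852.IMMathieu.card_M23
    obtain ⟨-, h11, -⟩ := H4.LDM.Stage.m23_low hC e p (by simpa only [_root_.Fintype.card_fin] using hn)
    rw [Fintype.card_fin] at h11
    have h1 := pr ho hpT [2, 3, 5, 7, 11, 23] (by simp only [List.mem_cons, List.not_mem_nil, or_false]; rintro x (rfl | rfl | rfl | rfl | rfl | rfl) <;> norm_num) (by decide)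
    have h2 := s_m23 hp.out ho ((hae e) ▸ aut_dvd H852.IMMathieu.card_M23 (by norm_num) S2063.result (by norm_num))
      (by omega) h1 k m h' hk hc
    simp only [ex_m23, List.mem_cons, List.not_mem_nil, or_false, Prod.mk.injEq] at h2
    omega
  · exfalso
    have ho := (hce e).trans S0364.result
    obtain ⟨-, h11, -⟩ := H4.LDM.Stage.m24_low hC e p (by simpa only [_root_.Fintype.card_fin] using hn)
    rw [Fintype.card_fin] at h11
    have h1 := pr ho hpT [2, 3, 5, 7, 11, 23] (by simp only [List.mem_cons, List.not_mem_nil, or_false]; rintro x (rfl | rfl | rfl | rfl | rfl | rfl) <;> norm_num) (by decide)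
    have h2 := s_m24 hp.out ho ((hae e) ▸ aut_dvd S0364.result (by norm_num) S2064.result (by norm_num))
      (by omega) h1 k m h' hk hc
    simp only [ex_m24, List.mem_cons, List.not_mem_nil, or_false, Prod.mk.injEq] at h2
    omega
  · by_cases h11 : p = 11
    · by_cases h7 : 7 ≤ n
      · exfalso
        obtain ⟨e⟩ := h
        have ho := (hce e).trans SporRec.J1.Words.card_J1
        exact nil rfl (s_j1b hp.out ho ((hae e) ▸ aut_dvd SporRec.J1.Words.card_J1 (by norm_num) S2065.result (by norm_num))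
          h7 (by simp [h11]) k m h' hk hc)
      · exact Or.inr (Or.inr (Or.inr (Or.inr (Or.inr (Or.inr (Or.inr (Or.inr (Or.inr (Or.inr (Or.inr (Or.inr (Or.inl
          ⟨h, h11, by omega⟩))))))))))))
    · exact (H659.J1.not_core hC h p h11 (by simpa only [_root_.Fintype.card_fin] using hn)).elim
  · have ho := (hce e).trans S1619.result.2.2.2
    have h1 := pr ho hpT [2, 3, 5, 7] (by simp only [List.mem_cons, List.not_mem_nil, or_false]; rintro x (rfl | rfl | rfl | rfl) <;> norm_num) (by decide)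
    have h2 := filt (s_j2 hp.out ho ((hae e) ▸ aut_dvd S1619.result.2.2.2 (by norm_num) S2066.result (by norm_num))
      h3 h1 k m h' hk hc) (ho ▸ hg) (ex' := g_j2) (by decide +kernel)
    refine Or.inr (Or.inr (Or.inr (Or.inr (Or.inr (Or.inr (Or.inr (Or.inr (Or.inr (Or.inr (Or.inr (Or.inr (Or.inr (Or.inl
      ⟨⟨e⟩, ?_⟩)))))))))))))
    have h5 : p ≠ 5 ∧ ((n = 3 ∨ n = 4) ∨ (n, p ^ k, m) ∈ [(6, 4, 315), (12, 2, 315)]) := by
      simp only [g_j2, List.mem_cons, List.not_mem_nil, or_false, Prod.mk.injEq] at h2 ⊢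
      refine ⟨?_, by (clear * - h3 h2; omega)⟩
      rintro rfl
      have h5 : 5 ∣ 5 ^ k := dvd_pow_self 5 (by omega)
      omega
    rcases h5 with ⟨h5, h6 | h6⟩
    · exfalso
      have h7 : Nat.Prime 5 := by norm_num
      have := (H921.Spor.J2.J2_five.bd h7 (H64.HTCop.cast_ne0 (F := F) p h7 h5)) n
        (H912.Bd.PR.of_perfect P hC.perfect h7 (by omega) e)
      omega
    · exact h6
  · exfalso
    have hbase := (H898.J3Cent.base (K := Spor.J3 K ω) ⟨K, inferInstance, inferInstance, ω, hK, hω, ⟨MulEquiv.refl _⟩⟩).2.1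
    have ho := (hce e).trans hbase
    have h1 := pr ho hpT [2, 3, 5, 17, 19] (by simp only [List.mem_cons, List.not_mem_nil, or_false]; rintro x (rfl | rfl | rfl | rfl | rfl) <;> norm_num) (by decide)
    exact nil rfl (filt (s_j3 hp.out ho ((hae e) ▸ aut_dvd hbase (by norm_num) (S2067.result hK ω hω) (by norm_num))
      h3 h1 k m h' hk hc) (ho ▸ hg) (ex' := g_j3) (by decide +kernel))
  · have ho := (hce e).trans S1694.result.2
    have h12 : n = 12 := by
      by_cases hp3 : p = 3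
      · subst hp3
        simpa only [_root_.Fintype.card_fin] using (H878.Sz.core_Suz_three hC e (by simpa using hn)).1
      · simpa only [_root_.Fintype.card_fin] using (H878.Sz.core_Suz hC e (by simpa using hn) p hp3).1
    have h1 := pr ho hpT [2, 3, 5, 7, 11, 13] (by simp only [List.mem_cons, List.not_mem_nil, or_false]; rintro x (rfl | rfl | rfl | rfl | rfl | rfl) <;> norm_num) (by decide)
    have h2 := s_suz hp.out ho ((hae e) ▸ aut_dvd S1694.result.2 (by norm_num) S2074.result (by norm_num))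
      (by omega) h1 k m h' hk hc
    have h4 : p ^ k = 2 ∨ (n, p ^ k, m) ∈ [(12, 3, 7280)] := by
      simp only [ex_suz, List.mem_cons, List.not_mem_nil, or_false, Prod.mk.injEq] at h2 ⊢
      omega
    refine Or.inr (Or.inr (Or.inr (Or.inr (Or.inr (Or.inr (Or.inr (Or.inr (Or.inr (Or.inr (Or.inr (Or.inr (Or.inr (Or.inr
      ⟨⟨e⟩, ?_⟩)))))))))))))
    rcases h4 with h4 | h4
    · exfalso
      have hp2 : p = 2 := by
        have : p ∣ 2 := h4 ▸ dvd_pow_self p (by omega)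
        exact (Nat.prime_dvd_prime_iff_eq hp.out Nat.prime_two).1 this
      subst hp2
      obtain ⟨-, ⟨c, hc1, -⟩, -⟩ := H878.Sz.core_Suz hC e (by simpa only [_root_.Fintype.card_fin] using hn) 2 (by norm_num)
      rw [h4] at hF
      have hF1 : Nat.card F - 1 = 1 := Nat.dvd_one.1 (by simpa only [_root_.Nat.card_eq_fintype_card, _root_.Nat.dvd_one, _root_.Nat.pred_eq_succ_iff, _root_.zero_add, _root_.Nat.add_one_sub_one] using hF)
      have hF2 : Fintype.card F = 2 := by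
        rw [← Nat.card_eq_fintype_card]
        omega
      rcases H64.HTCop.zero_or_one hF2 c with rfl | rfl
      · simp at hc1
      · have h5 : (1 : F) + 1 = 0 := CharTwo.add_self_eq_zero 1
        have h6 : (1 : F) ^ 4 + 1 ^ 2 + 1 = 1 := by
          rw [one_pow, one_pow, h5, zero_add]
        rw [h6] at hc1
        exact one_ne_zero hc1
    · exact h4

/-- **Degree `3 ≤ n ≤ 12`.** -/
theorem small (hC : Core P) (h3 : 3 ≤ n) (hn : n ≤ 12) (hK : IsKnownSimple' (Soc P)) (hL : ¬ IsLieTypeChar p (Soc P))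
    (hpT : p ∣ Nat.card (Soc P)) {k m h' : ℕ} (hk : 1 ≤ k)
    (hc : CP (Nat.card (Soc P)) (Nat.card (MulAut (Soc P))) n (p ^ k) m h')
    (hg : Nat.card (Soc P) ∣ H742.HT.glOrd (p ^ k) n) (hF : Nat.card F - 1 ∣ p ^ k - 1) :
    SmSurv p n (p ^ k) m (Soc P) := by
  rcases list₂ hn hC hK hL with h | h | h | ⟨h1, h2, h⟩ | h
  · exact sm_alt hC h3 hn hL hpT h hk hc hg
  · exact sm_lie hC h3 hn hL hpT (Or.inl h) hk hc hg
  · exact sm_lie hC h3 hn hL hpT (Or.inr h) hk hc hg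
  · exact (sm_sz hC hn h1 h hpT hk hc).elim
  · exact sm_spor hC h3 hn hpT h hk hc hg hF

end

end Cfsg.Agent.H391.HT

private theorem dce_bd5055562949 : _root_.True := by
  try have : _root_.True := by simp only [_root_.Cfsg.Agent.H391.HT.ex_m23.eq_1]
  try have : _root_.True := by simp only [_root_.Cfsg.Agent.H391.HT.ex_a6.eq_1]
  try have : _root_.True := by simp only [_root_.Cfsg.Agent.H391.HT.ex_m24.eq_1]
  try have : _root_.True := by simp only [_root_.Cfsg.Agent.H391.HT.g_j2.eq_1]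
  try have : _root_.True := by simp only [_root_.Cfsg.Agent.H391.HT.ex_a8.eq_1]
  try have : _root_.True := by simp only [_root_.Cfsg.Agent.H391.HT.ex_suz.eq_1]
  try have : _root_.True := by simp only [_root_.Cfsg.Agent.H391.HT.ex_s45.eq_1]
  try have : _root_.True := by simp only [_root_.Cfsg.Agent.H391.HT.gl.eq_1]
  exact _root_.True.intro
end

-- part: H391/HT/Frame
section
prune_inst 0x2000000800000008180000000000000000010200404000004000000000004120010001004000100012004000008000000000000010000000008a00000000000400402082081000000000000004000000000000000000000000000000000000000000000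
set_option linter.all false
open scoped Cfsg.Agent.FastGrp

/-!
# S3512, quasisimple rows: from `QSP` to the numerical survivors

`cases_small` (degree `3, …, 12`), `cases_big` (degree at least `13`).
-/

set_option autoImplicit false
set_option linter.unusedSectionVars false

universe u v w

open scoped commutatorElement

namespace Cfsg.Agent.H391.HT

open Cfsg Cfsg.Agent.H915.LD Cfsg.Agent.H828.HT Cfsg.Agent.H19.HT Cfsg.Agent.H337.HT Cfsg.Agent.H912.Bd
  Cfsg.Agent.H936.List12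

theorem SmSurv.congr {p n q m : ℕ} {T : Type v} {T' : Type w} [Group T] [Group T'] (e : T ≃* T')
    (h : SmSurv p n q m T) : SmSurv p n q m T' := by
  have hL : ∀ {a b : ℕ}, IsL a b T → IsL a b T' := fun h => isL_congr e h
  have hU : ∀ {a b : ℕ}, IsU a b T → IsU a b T' := fun h => isU_congr e h
  have hN : ∀ {X : Type} [Group X], Nonempty (T ≃* X) → Nonempty (T' ≃* X) := fun ⟨f⟩ => ⟨e.symm.trans f⟩
  rcases h with ⟨h1, h⟩ | ⟨h, h1⟩ | ⟨h, h1⟩ | ⟨c, h1, h⟩ | ⟨h, h1⟩ | ⟨h, h1⟩ | ⟨h, h1⟩ | ⟨h, h1⟩ | ⟨h, h1⟩ | ⟨h, h1⟩ |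
    ⟨h, h1⟩ | ⟨h, h1⟩ | ⟨h, h1⟩ | ⟨h, h1⟩ | ⟨h, h1⟩
  · exact Or.inl ⟨h1, hN h⟩
  · exact Or.inr (Or.inl ⟨hN h, h1⟩)
  · exact Or.inr (Or.inr (Or.inl ⟨hN h, h1⟩))
  · exact Or.inr (Or.inr (Or.inr (Or.inl ⟨c, h1, hN h⟩)))
  · exact Or.inr (Or.inr (Or.inr (Or.inr (Or.inl ⟨hL h, h1⟩))))
  · exact Or.inr (Or.inr (Or.inr (Or.inr (Or.inr (Or.inl ⟨hL h, h1⟩)))))
  · exact Or.inr (Or.inr (Or.inr (Or.inr (Or.inr (Or.inr (Or.inl ⟨hL h, h1⟩))))))
  · exact Or.inr (Or.inr (Or.inr (Or.inr (Or.inr (Or.inr (Or.inr (Or.inl ⟨hU h, h1⟩)))))))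
  · exact Or.inr (Or.inr (Or.inr (Or.inr (Or.inr (Or.inr (Or.inr (Or.inr (Or.inl ⟨hL h, h1⟩))))))))
  · exact Or.inr (Or.inr (Or.inr (Or.inr (Or.inr (Or.inr (Or.inr (Or.inr (Or.inr (Or.inl ⟨isG2_congr e h, h1⟩)))))))))
  · exact Or.inr (Or.inr (Or.inr (Or.inr (Or.inr (Or.inr (Or.inr (Or.inr (Or.inr (Or.inr (Or.inl ⟨hU h, h1⟩))))))))))
  · exact Or.inr (Or.inr (Or.inr (Or.inr (Or.inr (Or.inr (Or.inr (Or.inr (Or.inr (Or.inr (Or.inr (Or.inl
      ⟨hN h, h1⟩)))))))))))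
  · exact Or.inr (Or.inr (Or.inr (Or.inr (Or.inr (Or.inr (Or.inr (Or.inr (Or.inr (Or.inr (Or.inr (Or.inr (Or.inl
      ⟨hN h, h1⟩))))))))))))
  · exact Or.inr (Or.inr (Or.inr (Or.inr (Or.inr (Or.inr (Or.inr (Or.inr (Or.inr (Or.inr (Or.inr (Or.inr (Or.inr (Or.inl
      ⟨hN h, h1⟩)))))))))))))
  · exact Or.inr (Or.inr (Or.inr (Or.inr (Or.inr (Or.inr (Or.inr (Or.inr (Or.inr (Or.inr (Or.inr (Or.inr (Or.inr (Or.inr
      ⟨hN h, h1⟩)))))))))))))

variable {p : ℕ} [hp : Fact p.Prime] {K : Type w} [Field K] {V : Type u} [AddCommGroup V] [Module (ZMod p) V]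
    [Finite V] [Module K V] {G L : Subgroup (V ≃ₗ[ZMod p] V)} {h : ℕ}

theorem QSP.qw (H : QSP p K V G L h) : H662.HT.QW p K V G L h :=
  ⟨H.half, H.two_le, H.le, H.nrm, H.perf, H.simple, H.nonab, H.lin, H.endo, H.irr⟩

theorem glOrd_eq (q n : ℕ) : H742.HT.glOrd q n = ∏ i : Fin n, (q ^ n - q ^ (i : ℕ)) := by
  rw [H742.HT.glOrd, Fin.prod_univ_eq_prod_range (fun i => q ^ n - q ^ i) n, Finset.prod_range]
  rw [← List.prod_ofFn]
  congr 1
  apply List.ext_getElem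
  · simp
  · intro i h1 h2
    simp

theorem not_comm (H : QSP p K V G L h) : ¬ IsMulCommutative (L ⧸ Subgroup.center L) := by
  intro hc
  have h1 : commutator L ≤ Subgroup.center L := by
    rw [commutator_def, Subgroup.commutator_le]
    intro a _ b _
    have h2 : ((⁅a, b⁆ : L) : L ⧸ Subgroup.center L) = 1 := by
      have h3 := hc.is_comm.comm (a : L ⧸ Subgroup.center L) (b : L ⧸ Subgroup.center L)
      rw [commutatorElement_def, QuotientGroup.mk_mul, QuotientGroup.mk_mul, QuotientGroup.mk_mul, h3]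
      simp
    exact (QuotientGroup.eq_one_iff _).1 h2
  rw [H.perf] at h1
  obtain ⟨a, ha, b, hb, hab⟩ := H.nonab
  have h4 := Subgroup.mem_center_iff.1 (h1 (Subgroup.mem_top (⟨a, ha⟩ : L))) ⟨b, hb⟩
  exact hab (Subtype.ext_iff.1 h4).symm

/-- `p ∤ |Z(L)|` -/
theorem dvd_quot (H : QSP p K V G L h) (hpL : p ∣ Nat.card L) : p ∣ Nat.card (L ⧸ Subgroup.center L) := by
  have hK := H662.HT.QW.finiteK (QSP.qw H)
  rw [Subgroup.card_eq_card_quotient_mul_card_subgroup (Subgroup.center L)] at hpL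
  rcases (Nat.Prime.dvd_mul hp.out).1 hpL with h1 | h1
  · exact h1
  · exfalso
    obtain ⟨z, hz⟩ := exists_prime_orderOf_dvd_card' p h1
    obtain ⟨c, hc⟩ := H.endo (z : L) (fun l hl v => by
      have h2 := Subgroup.mem_center_iff.1 z.2 ⟨l, hl⟩
      have h3 : l * ((z : L) : V ≃ₗ[ZMod p] V) = ((z : L) : V ≃ₗ[ZMod p] V) * l := congrArg Subtype.val h2
      exact (LinearEquiv.congr_fun h3 v).symm)
    have hch := H662.HT.QW.charP (QSP.qw H)
    obtain ⟨v, hv⟩ := H662.HT.QW.exists_ne (QSP.qw H)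
    have hpow : ∀ (j : ℕ) (v : V), (((z : L) : V ≃ₗ[ZMod p] V) ^ j) v = c ^ j • v := by
      intro j
      induction j with
      | zero => intro v; rw [pow_zero, pow_zero, one_smul]; rfl
      | succ j ih =>
        intro v
        rw [pow_succ, pow_succ, LinearEquiv.mul_apply]
        have h5 : ((z : L) : V ≃ₗ[ZMod p] V) v = c • v := hc v
        rw [h5, ih, ← mul_smul]
    have hz1 : ((z : L) : V ≃ₗ[ZMod p] V) ^ p = 1 := by
      have h6 : z ^ p = 1 := orderOf_dvd_iff_pow_eq_one.1 (dvd_of_eq hz)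
      have h7 := congrArg (fun x : Subgroup.center L => ((x : L) : V ≃ₗ[ZMod p] V)) h6
      simpa using h7
    have h8 : c ^ p = 1 := by
      have h9 := hpow p v
      rw [hz1] at h9
      have h10 : (c ^ p - 1) • v = 0 := by rw [sub_smul, one_smul, sub_eq_zero]; exact h9.symm
      rcases smul_eq_zero.1 h10 with h11 | h11
      · exact sub_eq_zero.1 h11
      · exact absurd h11 hv
    have h12 : c = 1 := frobenius_inj K p (by rw [frobenius_def, frobenius_def, h8, one_pow])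
    have h13 : z = 1 := by
      apply Subtype.ext
      apply Subtype.ext
      apply LinearEquiv.ext
      intro v
      have := hc v
      rw [h12, one_smul] at this
      exact this
    rw [h13, orderOf_one] at hz
    exact hp.out.one_lt.ne hz

/-- **The frame.** -/
theorem frame (H : QSP p K V G L h) (hpL : p ∣ Nat.card L) (hkn : IsKnownSimple' (L ⧸ Subgroup.center L))
    (hL : ¬ IsLieTypeChar p (L ⧸ Subgroup.center L)) (hT : ¬ Tra G) {n : ℕ} (hn : Module.finrank K V = n) :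
    ∃ (F : Subfield K) (P : Subgroup (Matrix.GeneralLinearGroup (Fin n) F)) (m k : ℕ), CharP F p ∧ Core P ∧
      Nonempty (Soc P ≃* L ⧸ Subgroup.center L) ∧ IsKnownSimple' (Soc P) ∧ ¬ IsLieTypeChar p (Soc P) ∧
      p ∣ Nat.card (Soc P) ∧ 1 ≤ k ∧ Nat.card K = p ^ k ∧ m * h = Nat.card G ∧
      CP (Nat.card (Soc P)) (Nat.card (MulAut (Soc P))) n (p ^ k) m h ∧
      Nat.card (Soc P) ∣ H742.HT.glOrd (p ^ k) n ∧ Nat.card F - 1 ∣ p ^ k - 1 := by
  have hfK := H662.HT.QW.finiteK (QSP.qw H)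
  obtain ⟨F, P, -, -, hC, ⟨e⟩, -⟩ := H662.HT.exists_core (QSP.qw H) hn
  have hch := H662.HT.QW.charP_subfield (QSP.qw H) F
  obtain ⟨m, hm, hc, -, -, -⟩ := H192.Ht.QN.cp (QSP.ql H) H.dvd hT
  obtain ⟨k, hk, hk0⟩ := H192.Ht.QN.exists_card (QSP.ql H)
  have h1 : Nat.card (Soc P) = Nat.card (L ⧸ Subgroup.center L) := Nat.card_congr e.toEquiv
  have h2 : Nat.card (MulAut (Soc P)) = Nat.card (MulAut (L ⧸ Subgroup.center L)) :=
    Nat.card_congr (MulAut.congr e).toEquiv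
  have hnc := not_comm H
  have hnc' : ¬ IsMulCommutative (L ⧸ Subgroup.center L) := hnc
  refine ⟨F, P, m, k, hch, hC, ⟨e⟩, OddHalf.Known.isKnownSimple'_congr e.symm hnc' hkn,
    fun h3 => hL (OddHalf.Known.isLieTypeChar_congr e h3), ?_, hk0, hk, hm, ?_, ?_, ?_⟩
  · rw [h1]; exact dvd_quot H hpL
  · rw [h1, h2, ← hk, ← hn]; exact hc
  · rw [h1, glOrd_eq, ← hk, ← hn]
    exact (Subgroup.card_quotient_dvd_card _).trans (H192.Ht.QN.card_L_dvd_gl (QSP.ql H))
  · rw [← hk]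
    have h3 : Nat.card Fˣ ∣ Nat.card Kˣ := Subgroup.card_dvd_of_injective (Units.map (F.subtype : F →* K))
      (Units.map_injective F.subtype.injective)
    have : Fintype F := Fintype.ofFinite F
    have : Fintype K := Fintype.ofFinite K
    rwa [Nat.card_units, Nat.card_units] at h3

/-- **Degree `3, …, 12`.** -/
theorem cases_small (H : QSP p K V G L h) (hpL : p ∣ Nat.card L) (hkn : IsKnownSimple' (L ⧸ Subgroup.center L))
    (hL : ¬ IsLieTypeChar p (L ⧸ Subgroup.center L)) (hT : ¬ Tra G) (h3 : 3 ≤ Module.finrank K V)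
    (h12 : Module.finrank K V ≤ 12) : ∃ m, m * h = Nat.card G ∧
      SmSurv p (Module.finrank K V) (Nat.card K) m (L ⧸ Subgroup.center L) := by
  have hfK := H662.HT.QW.finiteK (QSP.qw H)
  obtain ⟨F, P, m, k, hch, hC, ⟨e⟩, h1, h2, h4, h5, h6, h7, h8, h9, h10⟩ := frame H hpL hkn hL hT rfl
  refine ⟨m, h7, ?_⟩
  rw [h6]
  exact (small hC h3 h12 h1 h2 h4 h5 h8 h9 h10).congr e

end Cfsg.Agent.H391.HT

private theorem dce_b2d15ae22cc8 : _root_.True := by
  try have : _root_.True := by simp only [_root_.Cfsg.Agent.H742.HT.glOrd.eq_1]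
  exact _root_.True.intro
end

-- part: H930/HT/DeadPPsu
section
prune_inst 0x200000080000000000000212000000000001000020000181000002010001210040210000001202914e322010404000000001c90000000020003200400200000028400002340d04300006801884000000000000000000000000000000000004000000000
set_option linter.all false
open scoped Cfsg.Agent.FastGrp

/-!
# S3512, quasisimple rows with `p ∣ |L|`, task PB2: unitary groups, `n ≥ 13` (helper930)
-/

set_option autoImplicit false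

namespace Cfsg.Agent.H930.HT

open Cfsg Cfsg.Agent.H915.LD Cfsg.Agent.H337.HT Cfsg.Agent.H912.Bd Cfsg.Agent.H936.List12

universe u v

/-! ### The numerical inequality -/

theorem le_bpow {b s : ℕ} (hb : 2 ≤ b) (hs : 1 ≤ s) : s ≤ b ^ (s - 1) := by
  obtain ⟨t, rfl⟩ : ∃ t, s = t + 1 := ⟨s - 1, by omega⟩
  rw [Nat.add_sub_cancel]
  exact Nat.lt_pow_self (by omega)

theorem numP_step {b m s : ℕ} (hb : 2 ≤ b) (hm : 3 ≤ m) (hs : 2 ≤ s) (h1 : 4 * m + 2 ≤ (s - 1) * s ^ (m - 2))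
    (h2 : 2 * s ^ (2 * m ^ 2) ≤ b ^ ((s - 1) * s ^ (m - 2) - 2)) :
    4 * (m + 1) + 2 ≤ (s - 1) * s ^ (m + 1 - 2) ∧
      2 * s ^ (2 * (m + 1) ^ 2) ≤ b ^ ((s - 1) * s ^ (m + 1 - 2) - 2) := by
  have e : (s - 1) * s ^ (m + 1 - 2) = ((s - 1) * s ^ (m - 2)) * s := by
    rw [show m + 1 - 2 = (m - 2) + 1 by omega, pow_succ]
    ring
  rw [e]
  set N := (s - 1) * s ^ (m - 2) with hN
  have h3 : N * 2 ≤ N * s := Nat.mul_le_mul_left _ hs
  constructor
  · (clear * - hm h1 e h3; omega)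
  · have h4 : s ^ (4 * m + 2) ≤ b ^ ((s - 1) * N) := by
      calc s ^ (4 * m + 2) ≤ (b ^ (s - 1)) ^ (4 * m + 2) := Nat.pow_le_pow_left (le_bpow hb (by omega)) _
        _ = b ^ ((s - 1) * (4 * m + 2)) := (pow_mul _ _ _).symm
        _ ≤ _ := Nat.pow_le_pow_right (by omega) (Nat.mul_le_mul_left _ h1)
    calc 2 * s ^ (2 * (m + 1) ^ 2) = (2 * s ^ (2 * m ^ 2)) * s ^ (4 * m + 2) := by
          rw [mul_assoc, ← pow_add]; congr 2; ring
      _ ≤ b ^ (N - 2) * b ^ ((s - 1) * N) := Nat.mul_le_mul h2 h4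
      _ = b ^ (N * s - 2) := by
        rw [← pow_add]
        congr 1
        obtain ⟨t, rfl⟩ : ∃ t, s = t + 1 := ⟨s - 1, by omega⟩
        rw [Nat.add_sub_cancel, Nat.mul_succ, mul_comm t N]
        omega

theorem numP_three {s : ℕ} (hs : 9 ≤ s) : 2 * s ^ 18 ≤ 2 ^ ((s - 1) * s - 2) := by
  induction s, hs using Nat.le_induction with
  | base => norm_num
  | succ s hs ih =>
    have h1 : (s + 1) ^ 18 ≤ s ^ 18 * 2 ^ (2 * s) := by
      calc (s + 1) ^ 18 ≤ (2 * s) ^ 18 := Nat.pow_le_pow_left (by omega) _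
        _ = 2 ^ 18 * s ^ 18 := mul_pow _ _ _
        _ ≤ 2 ^ (2 * s) * s ^ 18 :=
          Nat.mul_le_mul_right _ (Nat.pow_le_pow_right (by norm_num) (by omega))
        _ = _ := mul_comm _ _
    calc 2 * (s + 1) ^ 18 ≤ 2 * (s ^ 18 * 2 ^ (2 * s)) := Nat.mul_le_mul_left _ h1
      _ = (2 * s ^ 18) * 2 ^ (2 * s) := (mul_assoc _ _ _).symm
      _ ≤ 2 ^ ((s - 1) * s - 2) * 2 ^ (2 * s) := Nat.mul_le_mul_right _ ih
      _ = _ := by
        rw [← pow_add]
        congr 1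
        obtain ⟨t, rfl⟩ : ∃ t, s = t + 1 := ⟨s - 1, by omega⟩
        rw [Nat.add_sub_cancel, Nat.add_sub_cancel]
        have h3 : (t + 1) * (t + 1 + 1) = t * (t + 1) + 2 * (t + 1) := by ring
        have h4 : 8 * 9 ≤ t * (t + 1) := Nat.mul_le_mul (by omega) (by omega)
        (clear * - hs h3 h4; omega)

theorem numP_all {b m s : ℕ} (hb : 2 ≤ b)
    (h : 3 ≤ m ∧ 9 ≤ s ∨ 3 ≤ m ∧ s = 8 ∧ b = 3 ∨ 4 ≤ m ∧ s = 7 ∨ 4 ≤ m ∧ s = 5 ∨ 4 ≤ m ∧ s = 4 ∧ b = 3 ∨
      6 ≤ m ∧ s = 3 ∨ 9 ≤ m ∧ s = 2 ∧ b = 3) :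
    2 * s ^ (2 * m ^ 2) ≤ b ^ ((s - 1) * s ^ (m - 2) - 2) := by
  have key : ∀ m₀, 3 ≤ m₀ → 2 ≤ s → 4 * m₀ + 2 ≤ (s - 1) * s ^ (m₀ - 2) →
      2 * s ^ (2 * m₀ ^ 2) ≤ b ^ ((s - 1) * s ^ (m₀ - 2) - 2) → m₀ ≤ m →
      4 * m + 2 ≤ (s - 1) * s ^ (m - 2) ∧ 2 * s ^ (2 * m ^ 2) ≤ b ^ ((s - 1) * s ^ (m - 2) - 2) := by
    intro m₀ h3 hs h1 h2 hm
    clear h
    induction m, hm using Nat.le_induction with
    | base => exact ⟨h1, h2⟩
    | succ m hm ih => exact numP_step hb (h3.trans hm) hs ih.1 ih.2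
  have up : ∀ N x : ℕ, x ≤ 2 ^ N → x ≤ b ^ N := fun N x h => h.trans (Nat.pow_le_pow_left hb N)
  rcases h with ⟨hm, hs⟩ | ⟨hm, rfl, rfl⟩ | ⟨hm, rfl⟩ | ⟨hm, rfl⟩ | ⟨hm, rfl, rfl⟩ | ⟨hm, rfl⟩ | ⟨hm, rfl, rfl⟩
  · refine (key 3 le_rfl (by omega) ?_ (up _ _ ?_) hm).2
    · have : 8 * 9 ≤ (s - 1) * s := Nat.mul_le_mul (by omega) hs
      simpa only [Nat.reduceMul, Nat.reduceAdd, Nat.reduceSub, pow_one, ge_iff_le] using this.trans' (by norm_num)
    · have := numP_three hs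
      simpa only [Nat.reducePow, Nat.reduceMul, Nat.reduceSub, pow_one, ge_iff_le] using this
  · exact (key 3 (by norm_num) (by norm_num) (by norm_num) (by norm_num) hm).2
  · exact (key 4 (by norm_num) (by norm_num) (by norm_num) (up _ _
      ((show 2 * 7 ^ (2 * 4 ^ 2) ≤ 2 ^ 100 by norm_num).trans
        (Nat.pow_le_pow_right (by norm_num) (by norm_num)))) hm).2
  · exact (key 4 (by norm_num) (by norm_num) (by norm_num) (up _ _ (by norm_num)) hm).2
  · exact (key 4 (by norm_num) (by norm_num) (by norm_num) (by norm_num) hm).2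
  · exact (key 6 (by norm_num) (by norm_num) (by norm_num) (up _ _ (by norm_num)) hm).2
  · exact (key 9 (by norm_num) (by norm_num) (by norm_num) (by norm_num) hm).2

/-! ### The orders -/

section cards

variable {K : Type v} [Field K] [Fintype K]

theorem card_u35 (hK : Fintype.card K = 5 ^ 2) : Nat.card (PSU 3 K 5) = 126000 := by
  have h := H277.ClsPsu.card_psu hK (n := 3) (by norm_num)
  norm_num only [Nat.even_iff, Finset.prod_range_succ, Finset.range_one, Finset.prod_singleton, ite_true, ite_false] at h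
  omega

theorem card_u37 (hK : Fintype.card K = 7 ^ 2) : Nat.card (PSU 3 K 7) = 5663616 := by
  have h := H277.ClsPsu.card_psu hK (n := 3) (by norm_num)
  norm_num only [one_mul, Nat.even_iff, Finset.prod_range_succ, Finset.range_one, Finset.prod_singleton, ite_true, ite_false] at h
  omega

theorem card_u53 (hK : Fintype.card K = 3 ^ 2) : Nat.card (PSU 5 K 3) = 258190571520 := by
  have h := H277.ClsPsu.card_psu hK (n := 5) (by norm_num)
  norm_num only [one_mul, Nat.even_iff, Finset.prod_range_succ, Finset.range_one, Finset.prod_singleton, ite_true, ite_false] at h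
  omega

theorem card_u82 (hK : Fintype.card K = 2 ^ 2) : Nat.card (PSU 8 K 2) = 7434971050829414400 := by
  have h := H277.ClsPsu.card_psu hK (n := 8) (by norm_num)
  norm_num only [one_mul, Nat.even_iff, Finset.prod_range_succ, Finset.range_one, Finset.prod_singleton, ite_true, ite_false] at h
  omega

variable {n p : ℕ}

theorem deadP_u33 (hK : Fintype.card K = 3 ^ 2) (hp : p.Prime) (hd : p ∣ Nat.card (PSU 3 K 3)) (hr : p ≠ 3)
    (hn : 13 ≤ n) : DeadP p n (PSU 3 K 3) := by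
  have h3 : Fact (Nat.Prime 3) := ⟨Nat.prime_three⟩
  refine deadP_sieve 3 _ (card_u33 hK) ?_ (by norm_num) TabP.psu3_3 hp hd hr hn
  rw [S0815.result 3 1 le_rfl (by norm_num) hK 3 le_rfl (by norm_num), card_u33 hK]
  norm_num

theorem deadP_u34 (hK : Fintype.card K = 4 ^ 2) (hp : p.Prime) (hd : p ∣ Nat.card (PSU 3 K 4)) (hr : p ≠ 2)
    (hn : 13 ≤ n) : DeadP p n (PSU 3 K 4) := by
  have h3 : Fact (Nat.Prime 2) := ⟨Nat.prime_two⟩
  refine deadP_sieve 2 _ (card_u34 hK) ?_ (by norm_num only [List.mem_cons, List.not_mem_nil, or_false, forall_eq_or_imp,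
      forall_eq, and_self]) TabP.psu3_4 hp hd hr hn
  rw [S0815.result 2 2 (by norm_num) (by norm_num) hK 3 le_rfl (by norm_num), card_u34 hK]
  norm_num

theorem deadP_u35 (hK : Fintype.card K = 5 ^ 2) (hp : p.Prime) (hd : p ∣ Nat.card (PSU 3 K 5)) (hr : p ≠ 5)
    (hn : 20 ≤ n) : DeadP p n (PSU 3 K 5) := by
  have h3 : Fact (Nat.Prime 5) := ⟨Nat.prime_five⟩
  refine deadP_sieve 5 _ (card_u35 hK) ?_ (by norm_num only [List.mem_cons, List.not_mem_nil, or_false, forall_eq_or_imp,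
      forall_eq, and_self]) TabP.psu3_5 hp hd hr hn
  rw [S0815.result 5 1 le_rfl (by norm_num) hK 3 le_rfl (by norm_num), card_u35 hK]
  norm_num

theorem deadP_u37 (hK : Fintype.card K = 7 ^ 2) (hp : p.Prime) (hd : p ∣ Nat.card (PSU 3 K 7)) (hr : p ≠ 7)
    (hn : 42 ≤ n) : DeadP p n (PSU 3 K 7) := by
  have h3 : Fact (Nat.Prime 7) := ⟨by norm_num⟩
  refine deadP_sieve 7 _ (card_u37 hK) ?_ (by norm_num only [List.mem_cons, List.not_mem_nil, or_false, forall_eq_or_imp,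
      forall_eq, and_self]) TabP.psu3_7 hp hd hr hn
  rw [S0815.result 7 1 le_rfl (by norm_num) hK 3 le_rfl (by norm_num), card_u37 hK]
  norm_num

theorem deadP_u42 (hK : Fintype.card K = 2 ^ 2) (hp : p.Prime) (hd : p ∣ Nat.card (PSU 4 K 2)) (hr : p ≠ 2)
    (hn : 13 ≤ n) : DeadP p n (PSU 4 K 2) := by
  have h3 : Fact (Nat.Prime 2) := ⟨Nat.prime_two⟩
  refine deadP_sieve 2 _ (card_u42 hK) ?_ (by norm_num only [List.mem_cons, List.not_mem_nil, or_false, forall_eq_or_imp,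
      forall_eq, and_self]) TabP.psu4_2 hp hd hr hn
  rw [S0815.result 2 1 le_rfl (by norm_num) hK 4 (by norm_num) (by norm_num), card_u42 hK]
  norm_num

theorem deadP_u43 (hK : Fintype.card K = 3 ^ 2) (hp : p.Prime) (hd : p ∣ Nat.card (PSU 4 K 3)) (hr : p ≠ 3)
    (hn : 13 ≤ n) : DeadP p n (PSU 4 K 3) := by
  have h3 : Fact (Nat.Prime 3) := ⟨Nat.prime_three⟩
  refine deadP_sieve 3 _ (card_u43 hK) ?_ (by norm_num) TabP.psu4_3 hp hd hr hn
  rw [S0815.result 3 1 le_rfl (by norm_num) hK 4 (by norm_num) (by norm_num), card_u43 hK]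
  norm_num

theorem deadP_u53 (hK : Fintype.card K = 3 ^ 2) (hp : p.Prime) (hd : p ∣ Nat.card (PSU 5 K 3)) (hr : p ≠ 3)
    (hn : 54 ≤ n) : DeadP p n (PSU 5 K 3) := by
  have h3 : Fact (Nat.Prime 3) := ⟨Nat.prime_three⟩
  refine deadP_sieve 3 _ (card_u53 hK) ?_ (by norm_num only [List.mem_cons, List.not_mem_nil, or_false, forall_eq_or_imp,
      forall_eq, and_self]) TabP.psu5_3 hp hd hr hn
  rw [S0815.result 3 1 le_rfl (by norm_num) hK 5 (by norm_num) (by norm_num), card_u53 hK]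
  norm_num

theorem deadP_u52 (hK : Fintype.card K = 2 ^ 2) (hp : p.Prime) (hd : p ∣ Nat.card (PSU 5 K 2)) (hr : p ≠ 2)
    (hn : 13 ≤ n) : DeadP p n (PSU 5 K 2) := by
  have h3 : Fact (Nat.Prime 2) := ⟨Nat.prime_two⟩
  refine deadP_sieve 2 _ (card_u52 hK) ?_ (by norm_num only [List.mem_cons, List.not_mem_nil, or_false, forall_eq_or_imp,
      forall_eq, and_self]) TabP.psu5_2 hp hd hr hn
  rw [S0815.result 2 1 le_rfl (by norm_num) hK 5 (by norm_num) (by norm_num), card_u52 hK]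
  norm_num

theorem deadP_u62 (hK : Fintype.card K = 2 ^ 2) (hp : p.Prime) (hd : p ∣ Nat.card (PSU 6 K 2)) (hr : p ≠ 2)
    (hn : 16 ≤ n) : DeadP p n (PSU 6 K 2) := by
  have h3 : Fact (Nat.Prime 2) := ⟨Nat.prime_two⟩
  refine deadP_sieve 2 _ (card_u62 hK) ?_ (by norm_num) TabP.psu6_2 hp hd hr hn
  rw [S0815.result 2 1 le_rfl (by norm_num) hK 6 (by norm_num) (by norm_num), card_u62 hK]
  norm_num

theorem deadP_u72 (hK : Fintype.card K = 2 ^ 2) (hp : p.Prime) (hd : p ∣ Nat.card (PSU 7 K 2)) (hr : p ≠ 2)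
    (hn : 32 ≤ n) : DeadP p n (PSU 7 K 2) := by
  have h3 : Fact (Nat.Prime 2) := ⟨Nat.prime_two⟩
  refine deadP_sieve 2 _ (card_u72 hK) ?_ (by norm_num only [List.mem_cons, List.not_mem_nil, or_false, forall_eq_or_imp,
      forall_eq, and_self]) TabP.psu7_2 hp hd hr hn
  rw [S0815.result 2 1 le_rfl (by norm_num) hK 7 (by norm_num) (by norm_num), card_u72 hK]
  norm_num

theorem deadP_u82 (hK : Fintype.card K = 2 ^ 2) (hp : p.Prime) (hd : p ∣ Nat.card (PSU 8 K 2)) (hr : p ≠ 2)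
    (hn : 64 ≤ n) : DeadP p n (PSU 8 K 2) := by
  have h3 : Fact (Nat.Prime 2) := ⟨Nat.prime_two⟩
  refine deadP_sieve 2 _ (card_u82 hK) ?_ (by norm_num only [List.mem_cons, List.not_mem_nil, or_false, forall_eq_or_imp,
      forall_eq, and_self]) TabP.psu8_2 hp hd hr hn
  rw [S0815.result 2 1 le_rfl (by norm_num) hK 8 (by norm_num) (by norm_num), card_u82 hK]
  norm_num

/-- the general case -/
theorem deadP_big {b r f m s : ℕ} [hrf : Fact r.Prime] [CharP K r] (hf : 1 ≤ f) (hs : s = r ^ f)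
    (hK : Fintype.card K = s ^ 2) (hp : p.Prime) (hb : 2 ≤ b) (hbp : b ≤ p)
    (hm : 3 ≤ m) (h : 3 ≤ m ∧ 9 ≤ s ∨ 3 ≤ m ∧ s = 8 ∧ b = 3 ∨ 4 ≤ m ∧ s = 7 ∨ 4 ≤ m ∧ s = 5 ∨ 4 ≤ m ∧ s = 4 ∧ b = 3 ∨
      6 ≤ m ∧ s = 3 ∨ 9 ≤ m ∧ s = 2 ∧ b = 3)
    (hn : (s - 1) * s ^ (m - 2) ≤ n) (hn2 : 2 ≤ n) : DeadP p n (PSU m K s) := by
  have h32 : ¬ (m = 3 ∧ s = 2) := by omega
  refine deadP_of_pow (b := b) hp hn2 hbp (card_aut_le hf hs hK hm h32) Nat.card_pos ?_
  calc 2 * (s ^ (m ^ 2)) ^ 2 = 2 * s ^ (2 * m ^ 2) := by rw [← pow_mul, mul_comm (m ^ 2)]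
    _ ≤ b ^ ((s - 1) * s ^ (m - 2) - 2) := numP_all hb h
    _ ≤ b ^ (n - 2) := Nat.pow_le_pow_right (by omega) (by omega)

end cards

/-! ### The row -/

/-- **task PB2** -/
theorem deadP_psu {F : Type u} [Field F] [Finite F] {n p : ℕ} [hp' : Fact p.Prime] [CharP F p]
    {P : Subgroup (Matrix.GeneralLinearGroup (Fin n) F)} (hC : Core P) (hn : 13 ≤ n) (hp : p ∣ Nat.card (Soc P))
    (hL : ¬ Cfsg.IsLieTypeChar p (Soc P)) (hT : Cfsg.IsPSU (Soc P)) : DeadP p n (Soc P) := by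
  obtain ⟨K, iK, iKf, m, s, hK, hm, h32, ⟨e⟩⟩ := hT
  obtain ⟨r, hr⟩ := CharP.exists K
  have hrp : r.Prime := CharP.char_is_prime K r
  have hrf : Fact r.Prime := ⟨hrp⟩
  have hpr : p ≠ r := by
    rintro rfl
    exact hL (Or.inr (Or.inr (Or.inl ⟨K, iK, iKf, hr, m, s, hK, hm, h32, ⟨e⟩⟩)))
  have hd : r ∣ s := by
    have h1 : r ∣ Fintype.card K := char_dvd_card K
    rw [hK] at h1
    exact hrp.dvd_of_dvd_pow h1
  have hf : ∃ f, 1 ≤ f ∧ s = r ^ f := by
    obtain ⟨k, -, hk⟩ := FiniteField.card K r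
    have h1 : s ∣ r ^ (k : ℕ) := by rw [← hk, hK]; exact dvd_pow_self s two_ne_zero
    obtain ⟨f, -, hf⟩ := (Nat.dvd_prime_pow hrp).1 h1
    refine ⟨f, ?_, hf⟩
    rcases Nat.eq_zero_or_pos f with h0 | h0
    · rw [h0, pow_zero] at hf
      rw [hf] at hd
      exact absurd (Nat.dvd_one.1 hd) hrp.one_lt.ne'
    · exact h0
  obtain ⟨f, hf1, hf⟩ := hf
  have hs2 : 2 ≤ s := by
    rw [hf]
    calc 2 ≤ r := hrp.two_le
      _ = r ^ 1 := (pow_one r).symm
      _ ≤ r ^ f := Nat.pow_le_pow_right hrp.pos hf1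
  have hrF : (r : F) ≠ 0 := cast_ne (p := p) hrp (fun h => hpr h.symm)
  have hpp : p.Prime := hp'.out
  refine DeadP.congr e.symm ?_
  have hpd : p ∣ Nat.card (PSU m K s) := by rwa [← Nat.card_congr e.toEquiv]
  have hbd : (m, s) ∉ ({(4, 2), (4, 3), (6, 2)} : Set (ℕ × ℕ)) → (s - 1) * s ^ (m - 2) ≤ n := by
    intro hexc
    have hN : NoR.{u} r (PSU m K s) := NoR.of_cyclic (S2089.result (F := K) m s hK hm h32 hexc) (coprime_gcd_add hrp hd)
    exact le_of_bd hC (H175.BdSU.bd_psu (F := F) hrp hK hm hrF (MulEquiv.refl _)) hN ⟨e⟩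
  -- even `s` means `r = 2`
  have h2r : 2 ∣ s → r = 2 := fun h => by
    rw [hf] at h
    exact ((Nat.prime_dvd_prime_iff_eq Nat.prime_two hrp).1 (Nat.prime_two.dvd_of_dvd_pow h)).symm
  have h3r : 3 ∣ s → r = 3 := fun h => by
    rw [hf] at h
    exact ((Nat.prime_dvd_prime_iff_eq Nat.prime_three hrp).1 (Nat.prime_three.dvd_of_dvd_pow h)).symm
  have h5r : 5 ∣ s → r = 5 := fun h => by
    rw [hf] at h
    exact ((Nat.prime_dvd_prime_iff_eq Nat.prime_five hrp).1 (Nat.prime_five.dvd_of_dvd_pow h)).symm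
  have h7r : 7 ∣ s → r = 7 := fun h => by
    rw [hf] at h
    exact ((Nat.prime_dvd_prime_iff_eq (by norm_num) hrp).1 ((show Nat.Prime 7 by norm_num).dvd_of_dvd_pow h)).symm
  have hp2 := hpp.two_le
  have hp3 : p ≠ 2 → 3 ≤ p := by omega
  have hbig2 : (m, s) ∉ ({(4, 2), (4, 3), (6, 2)} : Set (ℕ × ℕ)) →
      (3 ≤ m ∧ 9 ≤ s ∨ 3 ≤ m ∧ s = 8 ∧ 2 = 3 ∨ 4 ≤ m ∧ s = 7 ∨ 4 ≤ m ∧ s = 5 ∨ 4 ≤ m ∧ s = 4 ∧ 2 = 3 ∨
        6 ≤ m ∧ s = 3 ∨ 9 ≤ m ∧ s = 2 ∧ 2 = 3) → DeadP p n (PSU m K s) :=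
    fun hexc h => deadP_big (r := r) (b := 2) hf1 hf hK hpp le_rfl hp2 hm h (hbd hexc) (by omega)
  have hbig3 : (m, s) ∉ ({(4, 2), (4, 3), (6, 2)} : Set (ℕ × ℕ)) → p ≠ 2 →
      (3 ≤ m ∧ 9 ≤ s ∨ 3 ≤ m ∧ s = 8 ∧ 3 = 3 ∨ 4 ≤ m ∧ s = 7 ∨ 4 ≤ m ∧ s = 5 ∨ 4 ≤ m ∧ s = 4 ∧ 3 = 3 ∨
        6 ≤ m ∧ s = 3 ∨ 9 ≤ m ∧ s = 2 ∧ 3 = 3) → DeadP p n (PSU m K s) :=
    fun hexc h2 h => deadP_big (r := r) (b := 3) hf1 hf hK hpp (by norm_num) (hp3 h2) hm h (hbd hexc) (by omega)
  rcases (show 9 ≤ s ∨ s = 8 ∨ s = 7 ∨ s = 6 ∨ s = 5 ∨ s = 4 ∨ s = 3 ∨ s = 2 by omega) with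
    h9 | rfl | rfl | rfl | rfl | rfl | rfl | rfl
  · refine hbig2 ?_ (Or.inl ⟨hm, h9⟩)
    simp only [Set.mem_insert_iff, Set.mem_singleton_iff, Prod.mk.injEq]
    omega
  · have h2 : r = 2 := h2r (by norm_num)
    refine hbig3 (by simp) (by omega) (Or.inr (Or.inl ⟨hm, rfl, rfl⟩))
  · have h2 : r = 7 := h7r (by norm_num)
    rcases (show m = 3 ∨ 4 ≤ m by omega) with rfl | h4
    · exact deadP_u37 hK hpp hpd (by omega) (by simpa only [Nat.add_one_sub_one, Nat.reduceSub, pow_one, Nat.reduceMul] using hbd (by simp))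
    · exact hbig2 (by simp) (Or.inr (Or.inr (Or.inl ⟨h4, rfl⟩)))
  · have h2 : r = 2 := h2r (by norm_num)
    have h3 : r = 3 := h3r (by norm_num)
    omega
  · have h2 : r = 5 := h5r (by norm_num)
    rcases (show m = 3 ∨ 4 ≤ m by omega) with rfl | h4
    · exact deadP_u35 hK hpp hpd (by omega) (by simpa using hbd (by simp))
    · exact hbig2 (by simp) (Or.inr (Or.inr (Or.inr (Or.inl ⟨h4, rfl⟩))))
  · have h2 : r = 2 := h2r (by norm_num)
    rcases (show m = 3 ∨ 4 ≤ m by omega) with rfl | h4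
    · exact deadP_u34 hK hpp hpd (by omega) hn
    · exact hbig3 (by simp) (by omega) (Or.inr (Or.inr (Or.inr (Or.inr (Or.inl ⟨h4, rfl, rfl⟩)))))
  · have h2 : r = 3 := h3r (by norm_num)
    rcases (show m = 3 ∨ m = 4 ∨ m = 5 ∨ 6 ≤ m by omega) with rfl | rfl | rfl | h4
    · exact deadP_u33 hK hpp hpd (by omega) hn
    · exact deadP_u43 hK hpp hpd (by omega) hn
    · exact deadP_u53 hK hpp hpd (by omega) (by simpa only [Nat.add_one_sub_one, Nat.reduceSub, Nat.reducePow, Nat.reduceMul] using hbd (by simp))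
    · refine hbig2 ?_ (Or.inr (Or.inr (Or.inr (Or.inr (Or.inr (Or.inl ⟨h4, rfl⟩))))))
      simp only [Set.mem_insert_iff, Set.mem_singleton_iff, Prod.mk.injEq]
      omega
  · have h2 : r = 2 := h2r (by norm_num)
    subst h2
    rcases (show m = 4 ∨ m = 5 ∨ m = 6 ∨ m = 7 ∨ m = 8 ∨ 9 ≤ m by omega) with rfl | rfl | rfl | rfl | rfl | h4
    · exact deadP_u42 hK hpp hpd hpr hn
    · exact deadP_u52 hK hpp hpd hpr hn
    · have h16 : 16 ≤ n := le_of_ls' hC hrF (H95.LSx.Uni.ls_u62 (K := K) (by rw [hK]; norm_num)) ⟨e⟩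
      exact deadP_u62 hK hpp hpd hpr h16
    · exact deadP_u72 hK hpp hpd hpr (by simpa using hbd (by simp))
    · exact deadP_u82 hK hpp hpd hpr (by simpa using hbd (by simp))
    · refine hbig3 ?_ hpr (Or.inr (Or.inr (Or.inr (Or.inr (Or.inr (Or.inr ⟨h4, rfl, rfl⟩))))))
      simp only [Set.mem_insert_iff, Set.mem_singleton_iff, Prod.mk.injEq]
      omega

end Cfsg.Agent.H930.HT
end
end
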